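import Mathlib

/-!
Actions of the alternating group of degree five on elementary abelian groups of order at most 16,
and invariant quadratic maps on such groups.
-/

set_option autoImplicit false

namespace Cfsg.Agent.Block.RankFourA5

open Equiv

local notation "A5" => alternatingGroup (Fin 5)

/-- An involution. -/
def invA : A5 := ⟨swap 0 1 * swap 2 3, Equiv.Perm.mem_alternatingGroup.2 (by decide)⟩

/-- A conjugate involution. -/
def invB : A5 := ⟨swap 1 2 * swap 3 4, Equiv.Perm.mem_alternatingGroup.2 (by decide)⟩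

/-- The element conjugating one to the other. -/
def shiftA : A5 := ⟨finRotate 5, Equiv.Perm.mem_alternatingGroup.2 (by decide)⟩

theorem invA_sq : invA * invA = 1 := by decide
theorem invA_ne : invA ≠ 1 := by decide
theorem invB_eq : invB = shiftA * invA * shiftA⁻¹ := by decide
theorem fiveA_pow : (invA * invB) ^ 5 = 1 := by decide
theorem fiveA_ne : invA * invB ≠ 1 := by decide
theorem fiveA_sq_ne : (invA * invB) ^ 2 ≠ 1 := by decide

theorem comm_of_sq {V : Type*} [Group V] (hV : ∀ a : V, a * a = 1) (a b : V) : a * b = b * a := by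
  have hinv : ∀ a : V, a⁻¹ = a := fun a => inv_eq_of_mul_eq_one_right (hV a)
  rw [← hinv (a * b), mul_inv_rev, hinv, hinv]

theorem eq_one_of_map_fiveA {M : Type*} [Group M] (φ : A5 →* M) (h : φ (invA * invB) = 1) :
    φ = 1 := by
  have : IsSimpleGroup A5 := alternatingGroup.isSimpleGroup (by simp)
  rcases (φ.normal_ker).eq_bot_or_eq_top with hb | ht
  · exact absurd (by rw [← Subgroup.mem_bot, ← hb]; exact h) fiveA_ne
  · exact MonoidHom.ker_eq_top_iff.1 ht

theorem eq_one_of_map_fiveA_sq {M : Type*} [Group M] (φ : A5 →* M)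
    (h : φ ((invA * invB) ^ 2) = 1) : φ = 1 := by
  refine eq_one_of_map_fiveA φ ?_
  have h5 : φ (invA * invB) ^ 5 = 1 := by rw [← map_pow, fiveA_pow, map_one]
  rw [map_pow] at h
  calc φ (invA * invB) = φ (invA * invB) ^ 5 * ((φ (invA * invB) ^ 2) ^ 2)⁻¹ := by group
    _ = 1 := by rw [h5, h]; simp

/-- The fixed subgroup of an automorphism. -/
def fixSub {V : Type*} [Group V] (f : MulAut V) : Subgroup V := (f.toMonoidHom).eqLocus (MonoidHom.id V)

theorem mem_fixSub {V : Type*} [Group V] (f : MulAut V) (a : V) : a ∈ fixSub f ↔ f a = a := Iff.rfl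

section Module

variable {V : Type*} [Group V] [Finite V] (hV : ∀ a : V, a * a = 1) (φ : A5 →* MulAut V)

include hV in
theorem index_fix_ge (hφ : φ ≠ 1) : 3 ≤ (fixSub (φ invA)).index := by
  by_contra hlt
  apply hφ
  apply eq_one_of_map_fiveA_sq
  set v := φ invA with hv
  set t := φ shiftA with ht
  set v' := φ invB with hv'
  set u := v * v' with hu
  have hv'eq : v' = t * v * t⁻¹ := by rw [hv', invB_eq, map_mul, map_mul, map_inv]
  have : ∀ H : Subgroup V, H.Normal := fun H => ⟨fun a ha g => by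
    rw [comm_of_sq hV g a, mul_inv_cancel_right]; exact ha⟩
  have hfix' : fixSub v' = (fixSub v).map t.toMonoidHom := by
    ext a
    rw [mem_fixSub, hv'eq]
    constructor
    · intro h
      refine ⟨t⁻¹ a, ?_, ?_⟩
      · show v (t⁻¹ a) = t⁻¹ a
        conv_rhs => rw [← h]
        simp
      · simp
    · rintro ⟨b, hb, rfl⟩
      have hb' : v b = b := hb
      simp [hb']
  have hidx : (fixSub v').index = (fixSub v).index := by
    rw [hfix']; exact Subgroup.index_map_equiv _ t
  set F := fixSub v ⊓ fixSub v' with hF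
  have hF4 : F.index ≤ 4 := le_trans Subgroup.index_inf_le (by
    rw [hidx]; calc _ ≤ 2 * 2 := Nat.mul_le_mul (by omega) (by omega)
      _ = 4 := rfl)
  have huF : ∀ a ∈ F, u a = a := fun a ha => by
    have h1 : v a = a := ha.1
    have h2 : v' a = a := ha.2
    rw [hu, MulAut.mul_apply, h2, h1]
  have hmap : F.map u.toMonoidHom = F := by
    ext a
    constructor
    · rintro ⟨b, hb, rfl⟩; show u b ∈ F; rw [huF b hb]; exact hb
    · exact fun ha => ⟨a, ha, huF a ha⟩
  let p : Equiv.Perm (V ⧸ F) := (QuotientGroup.congr F F u hmap).toEquiv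
  have hp : ∀ a : V, p (a : V ⧸ F) = ((u a : V) : V ⧸ F) := fun a => rfl
  have hpk : ∀ (k : ℕ) (a : V), (p ^ k) (a : V ⧸ F) = (((u ^ k) a : V) : V ⧸ F) := by
    intro k
    induction k with
    | zero => intro a; rfl
    | succ k ih => intro a; rw [pow_succ, pow_succ, Equiv.Perm.mul_apply, hp, ih]; rfl
  have hu5 : u ^ 5 = 1 := by rw [hu, hv, hv', ← map_mul, ← map_pow, fiveA_pow, map_one]
  have hp5 : p ^ 5 = 1 := by
    refine Equiv.ext fun a => ?_
    induction a using QuotientGroup.induction_on with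
    | _ a => rw [hpk, hu5]; rfl
  have hp1 : p = 1 := by
    have h1 : orderOf p ∣ 5 := orderOf_dvd_of_pow_eq_one hp5
    have h2 : orderOf p ∣ (Nat.card (V ⧸ F)).factorial := by
      rw [← Nat.card_perm]; exact orderOf_dvd_natCard p
    have h3 : (Nat.card (V ⧸ F)).factorial ∣ 24 :=
      (Nat.factorial_dvd_factorial (show Nat.card (V ⧸ F) ≤ 4 from hF4)).trans (by decide)
    have h4 := Nat.dvd_gcd h1 (h2.trans h3)
    rw [show Nat.gcd 5 24 = 1 from rfl, Nat.dvd_one, orderOf_eq_one_iff] at h4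
    exact h4
  rw [map_pow, map_mul]
  refine MulEquiv.ext fun a => ?_
  have ha : a * u a ∈ F := by
    have h := hp a
    rw [hp1, Equiv.Perm.one_apply, QuotientGroup.eq] at h
    rwa [inv_eq_of_mul_eq_one_right (hV a)] at h
  have h1 : u a = a * (a * u a) := by rw [← mul_assoc, hV, one_mul]
  show ((u ^ 2) : MulAut V) a = a
  rw [sq, MulAut.mul_apply]
  conv_lhs => rw [h1]
  rw [map_mul, huF _ ha]
  calc u a * (a * u a) = (u a * u a) * a := by rw [comm_of_sq hV a (u a), mul_assoc]
    _ = a := by rw [hV, one_mul]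

include hV in
theorem card_fix (hφ : φ ≠ 1) (h16 : Nat.card V ≤ 16) :
    Nat.card V = 16 ∧ Nat.card ↥(fixSub (φ invA)) = 4 ∧
      ∀ a ∈ fixSub (φ invA), ∃ w, a = w * φ invA w := by
  set v := φ invA with hv
  have hvv : ∀ a, v (v a) = a := fun a => by
    rw [← MulAut.mul_apply, hv, ← map_mul, invA_sq, map_one, MulAut.one_apply]
  let T : V →* V :=
    { toFun := fun a => a * v a
      map_one' := by simp
      map_mul' := fun a b => by
        rw [map_mul]
        calc a * b * (v a * v b) = a * (b * v a) * v b := by simp only [mul_assoc]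
          _ = a * (v a * b) * v b := by rw [comm_of_sq hV b (v a)]
          _ = _ := by simp only [mul_assoc] }
  have hker : T.ker = fixSub v := by
    ext a
    rw [MonoidHom.mem_ker, mem_fixSub]
    show a * v a = 1 ↔ _
    rw [mul_eq_one_iff_eq_inv', inv_eq_of_mul_eq_one_right (hV a)]
  have hrange : T.range ≤ fixSub v := by
    rintro _ ⟨a, rfl⟩
    show v (a * v a) = a * v a
    rw [map_mul, hvv, comm_of_sq hV]
  have hcard : Nat.card V = Nat.card ↥(fixSub v) * Nat.card T.range := by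
    rw [← Subgroup.index_ker T, hker, Subgroup.card_mul_index]
  have hi : 3 ≤ (fixSub v).index := index_fix_ge hV φ hφ
  have hmul := Subgroup.card_mul_index (fixSub v)
  have hrle : Nat.card T.range ≤ Nat.card ↥(fixSub v) := Subgroup.card_le_of_le hrange
  have : Fact (Nat.Prime 2) := ⟨Nat.prime_two⟩
  have hP : IsPGroup 2 V := fun a => ⟨1, by rw [pow_one, sq]; exact hV a⟩
  obtain ⟨k, hk⟩ := (hP.to_subgroup (fixSub v)).exists_card_eq
  obtain ⟨n, hn⟩ := hP.exists_card_eq
  obtain ⟨m, hm⟩ := (hP.to_subgroup T.range).exists_card_eq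
  have hidx : (fixSub v).index = 2 ^ m := by rw [← hm, ← Subgroup.index_ker T, hker]
  have hk2 : k = 2 ∧ m = 2 := by
    rw [hm, hk] at hrle hcard
    rw [hidx] at hi
    rw [hn] at h16 hcard
    have hn4 : n ≤ 4 := (Nat.pow_le_pow_iff_right (show 1 < 2 by norm_num)).1 (by simpa using h16)
    have hkm : n = k + m := Nat.pow_right_injective le_rfl (by show 2 ^ n = 2 ^ (k + m); rw [hcard, pow_add])
    have hmk : m ≤ k := (Nat.pow_le_pow_iff_right (show 1 < 2 by norm_num)).1 hrle
    have hm2 : 2 ≤ m := by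
      by_contra h
      have := Nat.pow_le_pow_right (show 0 < 2 by norm_num) (show m ≤ 1 by omega)
      omega
    omega
  refine ⟨?_, by rw [hk, hk2.1]; rfl, fun a ha => ?_⟩
  · rw [hcard, hm, hk, hk2.1, hk2.2]; rfl
  · have heq : T.range = fixSub v :=
      Subgroup.eq_of_le_of_card_ge hrange (by rw [hm, hk, hk2.1, hk2.2])
    rw [← heq] at ha
    obtain ⟨w, hw⟩ := ha
    exact ⟨w, hw.symm⟩

include hV in
theorem fpf (hφ : φ ≠ 1) (h16 : Nat.card V ≤ 16) (a : V)
    (ha : φ (invA * invB) a = a) : a = 1 := by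
  set u := φ (invA * invB) with hu
  have : Fact (Nat.Prime 5) := ⟨by norm_num⟩
  have hu5 : u ^ 5 = 1 := by rw [hu, ← map_pow, fiveA_pow, map_one]
  have hP : IsPGroup 5 (Subgroup.zpowers u) := by
    rintro ⟨_, i, rfl⟩
    refine ⟨1, Subtype.ext ?_⟩
    rw [pow_one, SubmonoidClass.coe_pow]
    show (u ^ i) ^ 5 = 1
    rw [← zpow_natCast, ← zpow_mul, mul_comm, zpow_mul, zpow_natCast, hu5, one_zpow]
  have hmod := hP.card_modEq_card_fixedPoints V
  have hfix : MulAction.fixedPoints (Subgroup.zpowers u) V = (fixSub u : Set V) := by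
    ext b
    constructor
    · intro h; exact h ⟨u, Subgroup.mem_zpowers u⟩
    · rintro hb ⟨_, i, rfl⟩
      show (u ^ i : MulAut V) • b = b
      exact (MulAction.stabilizer (MulAut V) b).zpow_mem hb i
  rw [(card_fix hV φ hφ h16).1, hfix, show Nat.card ↥((fixSub u : Subgroup V) : Set V)
    = Nat.card ↥(fixSub u) from rfl] at hmod
  have hdvd : Nat.card ↥(fixSub u) ∣ 16 := by
    rw [← (card_fix hV φ hφ h16).1]; exact Subgroup.card_subgroup_dvd_card _
  have hle : Nat.card ↥(fixSub u) ≤ 16 := Nat.le_of_dvd (by norm_num) hdvd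
  rcases (show Nat.card ↥(fixSub u) = 1 ∨ Nat.card ↥(fixSub u) = 16 by
    unfold Nat.ModEq at hmod
    interval_cases hc : Nat.card ↥(fixSub u) <;> omega) with h1 | h1
  · have : a ∈ fixSub u := ha
    rwa [Subgroup.eq_bot_of_card_eq _ h1, Subgroup.mem_bot] at this
  · refine absurd (eq_one_of_map_fiveA φ (MulEquiv.ext fun b => ?_)) hφ
    have : b ∈ fixSub u := by
      rw [Subgroup.eq_top_of_card_eq _ (h1.trans (card_fix hV φ hφ h16).1.symm)]; trivial
    exact this

include hV in
theorem five_dvd_ncard (hφ : φ ≠ 1) (h16 : Nat.card V ≤ 16) (S : Set V) (h1 : (1 : V) ∉ S)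
    (hinv : ∀ t, ∀ a ∈ S, φ t a ∈ S) : 5 ∣ S.ncard := by
  set u := φ (invA * invB) with hu
  have : Fact (Nat.Prime 5) := ⟨by norm_num⟩
  have hu5 : u ^ 5 = 1 := by rw [hu, ← map_pow, fiveA_pow, map_one]
  have hP : IsPGroup 5 (Subgroup.zpowers u) := by
    rintro ⟨_, i, rfl⟩
    refine ⟨1, Subtype.ext ?_⟩
    rw [pow_one, SubmonoidClass.coe_pow]
    show (u ^ i) ^ 5 = 1
    rw [← zpow_natCast, ← zpow_mul, mul_comm, zpow_mul, zpow_natCast, hu5, one_zpow]
  let T : SubMulAction (Subgroup.zpowers u) V :=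
    { carrier := S
      smul_mem' := by
        rintro ⟨_, i, rfl⟩ a ha
        show (u ^ i : MulAut V) a ∈ S
        rw [hu, ← map_zpow]
        exact hinv _ a ha }
  have hmod := hP.card_modEq_card_fixedPoints T
  have h0 : IsEmpty (MulAction.fixedPoints (Subgroup.zpowers u) T) := ⟨fun x => by
    have h := congrArg Subtype.val (x.2 ⟨u, Subgroup.mem_zpowers u⟩)
    exact h1 (fpf hV φ hφ h16 _ h ▸ x.1.2)⟩
  have h00 : Nat.card (MulAction.fixedPoints (Subgroup.zpowers u) T) = 0 := Nat.card_of_isEmpty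
  rw [h00, Nat.modEq_zero_iff_dvd] at hmod
  rwa [← Nat.card_coe_set_eq]

include hV in
/-- The only invariant subgroups are trivial. -/
theorem subgroup_eq (hφ : φ ≠ 1) (h16 : Nat.card V ≤ 16) (H : Subgroup V)
    (hinv : ∀ t, ∀ a ∈ H, φ t a ∈ H) : H = ⊥ ∨ H = ⊤ := by
  have hd := five_dvd_ncard hV φ hφ h16 ((H : Set V) \ {1}) (by simp) fun t a ha =>
    ⟨hinv t a ha.1, fun h => ha.2 (by simpa using h)⟩
  rw [Set.ncard_sdiff_singleton_of_mem H.one_mem, ← Nat.card_coe_set_eq] at hd
  have hc := (card_fix hV φ hφ h16).1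
  have hdvd : Nat.card H ∣ 16 := hc ▸ Subgroup.card_subgroup_dvd_card H
  have hle : Nat.card H ≤ 16 := Nat.le_of_dvd (by norm_num) hdvd
  have hd' : 5 ∣ Nat.card H - 1 := hd
  rcases (show Nat.card H = 1 ∨ Nat.card H = 16 by
    have := Nat.card_pos (α := H)
    interval_cases hcc : Nat.card H <;> omega) with h | h
  · exact Or.inl (Subgroup.eq_bot_of_card_eq _ h)
  · exact Or.inr (Subgroup.eq_top_of_card_eq _ (h.trans hc.symm))

include hV in
theorem transitive_or_five (hφ : φ ≠ 1) (h16 : Nat.card V ≤ 16) :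
    (∀ a b : V, a ≠ 1 → b ≠ 1 → ∃ t, φ t a = b) ∨
      ∃ S : Set V, S.ncard = 5 ∧ (1 : V) ∉ S ∧ ∀ t, ∀ a ∈ S, φ t a ∈ S := by
  have : Nontrivial V := Finite.one_lt_card_iff_nontrivial.1 (by
    rw [(card_fix hV φ hφ h16).1]; norm_num)
  obtain ⟨a, ha⟩ := exists_ne (1 : V)
  set O := Set.range fun t => φ t a with hO
  have hO1 : (1 : V) ∉ O := by
    rintro ⟨t, ht⟩; exact ha ((map_eq_one_iff _ (φ t).injective).1 ht)
  have hOinv : ∀ t, ∀ b ∈ O, φ t b ∈ O := by
    rintro t _ ⟨t', rfl⟩; exact ⟨t * t', by simp⟩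
  set C := (O ∪ {1})ᶜ with hC
  have hC1 : (1 : V) ∉ C := by simp [hC]
  have hCinv : ∀ t, ∀ b ∈ C, φ t b ∈ C := by
    intro t b hb h
    apply hb
    rcases h with h | h
    · refine Or.inl ?_
      have := hOinv t⁻¹ _ h
      simpa using this
    · exact Or.inr (by simpa using h)
  have hOd := five_dvd_ncard hV φ hφ h16 O hO1 hOinv
  have hOne : 0 < O.ncard := (Set.ncard_pos).2 ⟨_, 1, rfl⟩
  have hsum : O.ncard + 1 + C.ncard = 16 := by
    rw [← (card_fix hV φ hφ h16).1, ← Set.ncard_add_ncard_compl (O ∪ {1}),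
      Set.union_singleton, Set.ncard_insert_of_notMem hO1]
    simp [hC, Set.union_singleton]
  rcases (show O.ncard = 5 ∨ C.ncard = 5 ∨ C.ncard = 0 by omega) with h | h | h
  · exact Or.inr ⟨O, h, hO1, hOinv⟩
  · exact Or.inr ⟨C, h, hC1, hCinv⟩
  · left
    rw [Set.ncard_eq_zero, hC, Set.compl_empty_iff, Set.eq_univ_iff_forall] at h
    intro x y hx hy
    obtain ⟨s, hs⟩ := (h x).resolve_right (by simpa using hx)
    obtain ⟨r, hr⟩ := (h y).resolve_right (by simpa using hy)
    refine ⟨r * s⁻¹, ?_⟩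
    rw [← hs, ← hr, map_mul, map_inv]
    simp

include hV in
theorem exists_basis (hφ : φ ≠ 1) (h16 : Nat.card V ≤ 16) (S : Set V) (hS : S.ncard = 5)
    (h1 : (1 : V) ∉ S) (hinv : ∀ t, ∀ a ∈ S, φ t a ∈ S) :
    ∃ s : Fin 5 → V, Function.Injective s ∧ (∀ i, s i ∈ S) ∧
      s 0 * s 1 * s 2 * s 3 = s 4 ∧ Subgroup.closure (Set.range fun i : Fin 4 => s i.castSucc) = ⊤ ∧
      ∀ i j k l : Fin 5, i ≠ j → k ≠ l → ∃ t, φ t (s i) = s k ∧ φ t (s j) = s l := by
  classical
  letI : CommGroup V := { (inferInstance : Group V) with mul_comm := comm_of_sq hV }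
  have e : Fin 5 ≃ S := (finCongr (by rw [← hS, ← Nat.card_coe_set_eq])).trans
    (Finite.equivFin S).symm
  let s : Fin 5 → V := fun i => (e i : V)
  have hsinj : Function.Injective s := Subtype.val_injective.comp e.injective
  have hsS : ∀ i, s i ∈ S := fun i => (e i).2
  have hmem : ∀ a ∈ S, ∃ i, s i = a := fun a ha => ⟨e.symm ⟨a, ha⟩, by simp [s]⟩
  have hback : ∀ (t : A5) (a : V), a ∈ S ↔ φ t a ∈ S := fun t a => ⟨hinv t a, fun h => by
    simpa using hinv t⁻¹ _ h⟩
  let f : A5 → Perm (Fin 5) := fun t =>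
    e.trans (((φ t).toEquiv.subtypeEquiv (hback t)).trans e.symm)
  have hf : ∀ t i, s (f t i) = φ t (s i) := fun t i => by simp [f, s]
  let ρ : A5 →* Perm (Fin 5) :=
    { toFun := f
      map_one' := Equiv.ext fun i => hsinj (by rw [hf]; simp)
      map_mul' := fun t t' => Equiv.ext fun i => hsinj (by
        rw [Perm.mul_apply, hf, hf, hf, map_mul, MulAut.mul_apply]) }
  have hρinj : Function.Injective ρ := by
    have : IsSimpleGroup A5 := alternatingGroup.isSimpleGroup (by simp)
    rw [← MonoidHom.ker_eq_bot_iff]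
    refine (ρ.normal_ker).eq_bot_or_eq_top.resolve_right fun ht => h1 ?_
    have hfix : φ (invA * invB) (s 0) = s 0 := by
      rw [← hf]
      show s (ρ (invA * invB) 0) = s 0
      rw [MonoidHom.ker_eq_top_iff.1 ht]; rfl
    exact fpf hV φ hφ h16 _ hfix ▸ hsS 0
  have hidx : ρ.range.index = 2 := by
    have h := Subgroup.card_mul_index ρ.range
    rw [← Nat.card_congr (MonoidHom.ofInjective hρinj).toEquiv, nat_card_alternatingGroup,
      Nat.card_perm, Nat.card_fin, show (5 : ℕ).factorial = 120 from rfl] at h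
    omega
  have halt := Equiv.Perm.eq_alternatingGroup_of_index_eq_two hidx
  have h2 : ∀ i j k l : Fin 5, i ≠ j → k ≠ l → ∃ t, φ t (s i) = s k ∧ φ t (s j) = s l := by
    intro i j k l hij hkl
    have h3 := alternatingGroup.isMultiplyPretransitive (Fin 5)
    rw [Nat.card_fin] at h3
    have h2' : MulAction.IsMultiplyPretransitive A5 (Fin 5) 2 :=
      MulAction.isMultiplyPretransitive_of_le (n := 5 - 2) (by norm_num) (by simp)
    obtain ⟨σ, hσi, hσj⟩ := MulAction.is_two_pretransitive_iff.1 h2' hij hkl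
    obtain ⟨t, ht⟩ : (σ : Perm (Fin 5)) ∈ ρ.range := by rw [halt]; exact σ.2
    refine ⟨t, ?_, ?_⟩ <;> rw [← hf] <;> show s (ρ t _) = _ <;> rw [ht]
    · exact congrArg s hσi
    · exact congrArg s hσj
  have hprod : ∀ t, φ t (∏ i, s i) = ∏ i, s i := fun t => by
    rw [map_prod]
    simp only [← hf]
    exact Equiv.prod_comp (f t) s
  have hone : ∏ i, s i = 1 := fpf hV φ hφ h16 _ (hprod _)
  rw [Fin.prod_univ_five] at hone
  have h4 : s 0 * s 1 * s 2 * s 3 = s 4 := by
    rw [eq_inv_of_mul_eq_one_left hone, inv_eq_of_mul_eq_one_right (hV _)]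
  refine ⟨s, hsinj, hsS, h4, ?_, h2⟩
  set H := Subgroup.closure (Set.range fun i : Fin 4 => s i.castSucc) with hH
  have hs4 : ∀ i : Fin 4, s i.castSucc ∈ H := fun i => Subgroup.subset_closure ⟨i, rfl⟩
  have hall : ∀ i, s i ∈ H := by
    intro i
    induction i using Fin.lastCases with
    | last =>
      rw [show Fin.last 4 = (4 : Fin 5) from rfl, ← h4]
      exact H.mul_mem (H.mul_mem (H.mul_mem (hs4 0) (hs4 1)) (hs4 2)) (hs4 3)
    | cast i => exact hs4 i
  have hHinv : ∀ t, ∀ a ∈ H, φ t a ∈ H := by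
    intro t a ha
    have hle : H ≤ H.comap (φ t).toMonoidHom := by
      conv_lhs => rw [hH]
      rw [Subgroup.closure_le]
      rintro _ ⟨i, rfl⟩
      show φ t (s i.castSucc) ∈ H
      rw [← hf]; exact hall _
    exact hle ha
  refine (subgroup_eq hV φ hφ h16 H hHinv).resolve_left fun hb => h1 ?_
  have : s 0 ∈ (⊥ : Subgroup V) := hb ▸ hall 0
  rw [Subgroup.mem_bot] at this
  exact this ▸ hsS 0

include hV in
/-- An invariant quadratic map takes at most one value besides the identity. -/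
theorem quadratic {M : Type*} [Group M] (hM : ∀ m : M, m * m = 1) (hφ : φ ≠ 1)
    (h16 : Nat.card V ≤ 16) (q : V → M) (hinv : ∀ t a, q (φ t a) = q a) (h1 : q 1 = 1)
    (hbi : ∀ x y z, q (x * y * z) * q (x * y) * q z
      = (q (x * z) * q x * q z) * (q (y * z) * q y * q z)) :
    (∀ x, q x = 1) ∨ ∃ (s : Fin 4 → V) (b : M), b ≠ 1 ∧ (∀ x, q x = 1 ∨ q x = b) ∧
      Subgroup.closure (Set.range s) = ⊤ ∧ (∀ i, q (s i) = 1) ∧
      ∀ i j, i ≠ j → q (s i * s j) = b := by
  letI : CommGroup M := { (inferInstance : Group M) with mul_comm := comm_of_sq hM }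
  let c : V → V → M := fun x y => q (x * y) * q x * q y
  have hc : ∀ x y z, c (x * y) z = c x z * c y z := hbi
  have hsymm : ∀ x y, c x y = c y x := fun x y => by
    simp only [c]; rw [comm_of_sq hV x y, mul_right_comm]
  have hq : ∀ x y, q (x * y) = q x * q y * c x y := fun x y => by
    simp only [c]
    calc q (x * y) = q (x * y) * (q x * q x) * (q y * q y) := by rw [hM, hM, mul_one, mul_one]
      _ = _ := by ac_rfl
  rcases transitive_or_five hV φ hφ h16 with htr | ⟨S, hS, hS1, hSinv⟩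
  · left
    classical
    have := Fintype.ofFinite V
    have hcard : Fintype.card V = 16 := by
      rw [← Nat.card_eq_fintype_card]; exact (card_fix hV φ hφ h16).1
    have hex : ∀ s : Finset V, s.card < 16 → ∃ a, a ∉ s := fun s hs => by
      by_contra! h
      have := Finset.card_univ (α := V) ▸ Finset.card_le_card (fun x _ => h x : Finset.univ ⊆ s)
      omega
    obtain ⟨y, hy⟩ := hex {1} (by simp)
    obtain ⟨z, hz⟩ := hex {1, y} (lt_of_le_of_lt Finset.card_le_two (by norm_num))
    obtain ⟨x, hx⟩ := hex {1, y, z, y * z} (lt_of_le_of_lt Finset.card_le_four (by norm_num))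
    simp only [Finset.mem_insert, Finset.mem_singleton, not_or] at hy hz hx
    have hne : ∀ a b : V, a ≠ b → a * b ≠ 1 := fun a b hab h => hab (by
      rw [eq_inv_of_mul_eq_one_left h, inv_eq_of_mul_eq_one_right (hV b)])
    have hconst : ∀ a, a ≠ 1 → q a = q x := fun a ha => by
      obtain ⟨t, ht⟩ := htr x a hx.1 ha
      rw [← ht, hinv]
    have hcv : ∀ a b, a ≠ 1 → b ≠ 1 → a ≠ b → c a b = q x := fun a b ha hb hab => by
      simp only [c]
      rw [hconst _ (hne a b hab), hconst a ha, hconst b hb, mul_assoc, hM, mul_one]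
    have h0 : q x = 1 := by
      have h := hc y z x
      rw [hcv (y * z) x (hne y z (Ne.symm hz.2)) hx.1 (Ne.symm hx.2.2.2),
        hcv y x hy hx.1 (Ne.symm hx.2.1), hcv z x hz.1 hx.1 (Ne.symm hx.2.2.1), hM] at h
      exact h
    intro a
    rcases eq_or_ne a 1 with rfl | ha
    · exact h1
    · rw [hconst a ha, h0]
  · obtain ⟨s, hsinj, hsS, h4, hgen, h2⟩ := exists_basis hV φ hφ h16 S hS hS1 hSinv
    set a := q (s 0) with ha
    set b := q (s 0 * s 1) with hb
    have hqa : ∀ i, q (s i) = a := fun i => by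
      obtain ⟨j, hj'⟩ := exists_ne i
      have hj : i ≠ j := hj'.symm
      obtain ⟨t, ht, -⟩ := h2 0 1 i j (by decide) hj
      rw [← ht, hinv]
    have hqb : ∀ i j, i ≠ j → q (s i * s j) = b := fun i j hij => by
      obtain ⟨t, ht, ht'⟩ := h2 0 1 i j (by decide) hij
      rw [← ht, ← ht', ← map_mul, hinv]
    have hcb : ∀ i j, i ≠ j → c (s i) (s j) = b := fun i j hij => by
      simp only [c]
      rw [hqb i j hij, hqa, hqa, mul_assoc, hM, mul_one]
    have ha1 : a = 1 := by
      rw [← hqa 4, ← h4, mul_assoc, hq, hq, hq, hqa, hqa, hqa, hqa, hcb 0 1 (by decide),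
        hcb 2 3 (by decide), hc, hsymm (s 0) (s 2 * s 3), hsymm (s 1) (s 2 * s 3), hc, hc,
        hcb 2 0 (by decide), hcb 3 0 (by decide), hcb 2 1 (by decide), hcb 3 1 (by decide)]
      simp only [hM, one_mul]
    by_cases hb1 : b = 1
    all_goals
      have hB : ∀ m₁ m₂ : M, (m₁ = 1 ∨ m₁ = b) → (m₂ = 1 ∨ m₂ = b) → (m₁ * m₂ = 1 ∨ m₁ * m₂ = b) := by
        rintro m₁ m₂ (rfl | rfl) (rfl | rfl) <;> simp [hM]
      have hc1 : ∀ w, c 1 w = 1 := fun w => by
        simp only [c]; rw [one_mul, h1, mul_one, hM]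
      have hinv2 : ∀ w : V, w⁻¹ = w := fun w => inv_eq_of_mul_eq_one_right (hV w)
      set s' : Fin 4 → V := fun i => s i.castSucc with hs'
      have hstep : ∀ w i, (∀ x, x ∈ Set.range s' → c x w = 1 ∨ c x w = b) → (c i w = 1 ∨ c i w = b) := by
        intro w i hw
        have hi : i ∈ Subgroup.closure (Set.range s') := hgen ▸ Subgroup.mem_top i
        induction hi using Subgroup.closure_induction with
        | mem x hx => exact hw x hx
        | one => exact Or.inl (hc1 w)
        | mul x y _ _ h h' => rw [hc]; exact hB _ _ h h'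
        | inv x _ h => rwa [hinv2]
      have hcall : ∀ x y, c x y = 1 ∨ c x y = b := by
        intro x y
        refine hstep y x ?_
        rintro _ ⟨i, rfl⟩
        rw [hsymm]
        refine hstep _ y ?_
        rintro _ ⟨j, rfl⟩
        rcases eq_or_ne j i with rfl | hji
        · left
          simp only [c]
          rw [hV, h1, one_mul, hM]
        · exact Or.inr (hcb _ _ fun h => hji (Fin.castSucc_injective _ h))
      have hqall : ∀ x, q x = 1 ∨ q x = b := by
        intro x
        have hx : x ∈ Subgroup.closure (Set.range s') := hgen ▸ Subgroup.mem_top x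
        induction hx using Subgroup.closure_induction with
        | mem x hx => obtain ⟨i, rfl⟩ := hx; exact Or.inl (by rw [hqa, ha1])
        | one => exact Or.inl h1
        | mul x y _ _ h h' => rw [hq]; exact hB _ _ (hB _ _ h h') (hcall x y)
        | inv x _ h => rwa [hinv2]
    · left
      intro x
      rcases hqall x with h | h
      · exact h
      · rw [h, hb1]
    · exact Or.inr ⟨s', b, hb1, hqall, hgen, fun i => by rw [hqa, ha1], fun i j hij =>
        hqb _ _ fun h => hij (Fin.castSucc_injective _ h)⟩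

end Module

end Cfsg.Agent.Block.RankFourA5
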