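import Mathlib

/-!
Four involutions with pairwise commutator a fixed central involution generate a central product of
a quaternion and a dihedral group of order eight.
-/

set_option autoImplicit false

namespace Cfsg.Agent.Block.RankFourA5

variable {G : Type*} [Group G]

theorem pow_val_add {x : G} {n : ℕ} [NeZero n] (hx : x ^ n = 1) (k l : ZMod n) :
    x ^ (k + l).val = x ^ k.val * x ^ l.val := by
  rw [ZMod.val_add, ← pow_add]
  exact pow_eq_pow_mod _ hx |>.symm

theorem pow_val_neg {x : G} {n : ℕ} [NeZero n] (hx : x ^ n = 1) (k : ZMod n) :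
    x ^ (-k).val = (x ^ k.val)⁻¹ := by
  refine eq_inv_of_mul_eq_one_left ?_
  rw [← pow_val_add hx, neg_add_cancel, ZMod.val_zero, pow_zero]

/-- Facts about a pair `i`, `j` with `j` inverting `i` of order four. -/
theorem invert_pow {i j : G} (h : j⁻¹ * i * j = i⁻¹) (m : ℕ) : i ^ m * j = j * (i ^ m)⁻¹ := by
  induction m with
  | zero => simp
  | succ m ih =>
    have h1 : i * j = j * i⁻¹ := by rw [← h]; group
    rw [pow_succ', mul_assoc, ih, ← mul_assoc, h1]
    group

theorem pow_ne_one_of_order_four {i : G} (h4 : i ^ 4 = 1) (h2 : i ^ 2 ≠ 1) {k : ZMod 4}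
    (hk : i ^ k.val = 1) : k = 0 := by
  have h1 : orderOf i = 2 ^ 2 := by
    have : Fact (Nat.Prime 2) := ⟨Nat.prime_two⟩
    exact orderOf_eq_prime_pow (by simpa using h2) (by simpa using h4)
  have h3 := orderOf_dvd_of_pow_eq_one hk
  rw [h1] at h3
  have := k.val_lt
  exact (ZMod.val_eq_zero k).1 (Nat.eq_zero_of_dvd_of_lt h3 (by simpa using this))

theorem exists_quaternion {i j : G} (hi4 : i ^ 4 = 1) (hi2 : i ^ 2 ≠ 1) (hj : j * j = i ^ 2)
    (hij : j⁻¹ * i * j = i⁻¹) :
    ∃ A : Subgroup G, Nonempty (↥A ≃* QuaternionGroup 2) ∧ A = Subgroup.closure {i, j} := by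
  let p : ZMod (2 * 2) → G := fun k => i ^ k.val
  have hpa : ∀ k l, p (k + l) = p k * p l := fun k l => pow_val_add hi4 k l
  have hpn : ∀ k, p (-k) = (p k)⁻¹ := fun k => pow_val_neg hi4 k
  have hpj : ∀ k, p k * j = j * (p k)⁻¹ := fun k => invert_pow hij _
  have hp2 : p ((2 : ℕ) : ZMod (2 * 2)) = i ^ 2 := rfl
  have hcomm : ∀ k l, p k * p l = p l * p k := fun k l => by rw [← hpa, ← hpa, add_comm]
  let f : QuaternionGroup 2 →* G :=
    { toFun := fun x => match x with
        | .a k => p k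
        | .xa k => j * p k
      map_one' := by show p 0 = 1; simp [p]
      map_mul' := by
        rintro (k | k) (l | l)
        · show p (k + l) = p k * p l; exact hpa k l
        · show j * p (l - k) = p k * (j * p l)
          rw [sub_eq_add_neg, hpa, hpn, ← mul_assoc (p k), hpj, mul_assoc, ← hpn, hcomm]
        · show j * p (k + l) = j * p k * p l
          rw [hpa, mul_assoc]
        · show p ((2 : ℕ) + l - k) = j * p k * (j * p l)
          rw [sub_eq_add_neg, hpa, hpa, hp2, hpn, mul_assoc j, ← mul_assoc (p k), hpj, ← mul_assoc,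
            ← mul_assoc, hj, ← hpn, mul_assoc, mul_assoc, hcomm (-k)] }
  have hf : Function.Injective f := by
    rw [injective_iff_map_eq_one]
    rintro (k | k) h
    · rw [pow_ne_one_of_order_four hi4 hi2 (k := k) h]; rfl
    · exfalso
      have hjk : j * p k = 1 := h
      have hj' : j = (p k)⁻¹ := eq_inv_of_mul_eq_one_left hjk
      apply hi2
      have hc : j⁻¹ * i * j = i := by
        rw [hj']; simp only [p]; group
      rw [hij] at hc
      rw [sq]
      nth_rewrite 1 [← hc]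
      exact inv_mul_cancel i
  refine ⟨f.range, ⟨(MonoidHom.ofInjective hf).symm⟩, ?_⟩
  refine le_antisymm ?_ ?_
  · rintro _ ⟨k | k, rfl⟩
    · exact Subgroup.pow_mem _ (Subgroup.subset_closure (by simp)) _
    · exact Subgroup.mul_mem _ (Subgroup.subset_closure (by simp))
        (Subgroup.pow_mem _ (Subgroup.subset_closure (by simp)) _)
  · rw [Subgroup.closure_le]
    rintro x (rfl | rfl)
    · exact ⟨.a 1, pow_one x⟩
    · exact ⟨.xa 0, show x * i ^ (0 : ZMod (2 * 2)).val = x by simp⟩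

theorem exists_dihedral {i j : G} (hi4 : i ^ 4 = 1) (hi2 : i ^ 2 ≠ 1) (hj : j * j = 1)
    (hij : j⁻¹ * i * j = i⁻¹) :
    ∃ B : Subgroup G, Nonempty (↥B ≃* DihedralGroup 4) ∧ B = Subgroup.closure {i, j} := by
  let p : ZMod 4 → G := fun k => i ^ k.val
  have hpa : ∀ k l, p (k + l) = p k * p l := fun k l => pow_val_add hi4 k l
  have hpn : ∀ k, p (-k) = (p k)⁻¹ := fun k => pow_val_neg hi4 k
  have hpj : ∀ k, p k * j = j * (p k)⁻¹ := fun k => invert_pow hij _
  have hcomm : ∀ k l, p k * p l = p l * p k := fun k l => by rw [← hpa, ← hpa, add_comm]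
  let f : DihedralGroup 4 →* G :=
    { toFun := fun x => match x with
        | .r k => p k
        | .sr k => j * p k
      map_one' := by show p 0 = 1; simp [p]
      map_mul' := by
        rintro (k | k) (l | l)
        · show p (k + l) = p k * p l; exact hpa k l
        · show j * p (l - k) = p k * (j * p l)
          rw [sub_eq_add_neg, hpa, hpn, ← mul_assoc (p k), hpj, mul_assoc, ← hpn, hcomm]
        · show j * p (k + l) = j * p k * p l
          rw [hpa, mul_assoc]
        · show p (l - k) = j * p k * (j * p l)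
          rw [sub_eq_add_neg, hpa, hpn, mul_assoc j, ← mul_assoc (p k), hpj, ← mul_assoc,
            ← mul_assoc, hj, one_mul, ← hpn, hcomm] }
  have hf : Function.Injective f := by
    rw [injective_iff_map_eq_one]
    rintro (k | k) h
    · rw [pow_ne_one_of_order_four hi4 hi2 (k := k) h]; rfl
    · exfalso
      have hjk : j * p k = 1 := h
      have hj' : j = (p k)⁻¹ := eq_inv_of_mul_eq_one_left hjk
      apply hi2
      have hc : j⁻¹ * i * j = i := by
        rw [hj']; simp only [p]; group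
      rw [hij] at hc
      rw [sq]
      nth_rewrite 1 [← hc]
      exact inv_mul_cancel i
  refine ⟨f.range, ⟨(MonoidHom.ofInjective hf).symm⟩, ?_⟩
  refine le_antisymm ?_ ?_
  · rintro _ ⟨k | k, rfl⟩
    · exact Subgroup.pow_mem _ (Subgroup.subset_closure (by simp)) _
    · exact Subgroup.mul_mem _ (Subgroup.subset_closure (by simp))
        (Subgroup.pow_mem _ (Subgroup.subset_closure (by simp)) _)
  · rw [Subgroup.closure_le]
    rintro x (rfl | rfl)
    · exact ⟨.r 1, pow_one x⟩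
    · exact ⟨.sr 0, show x * i ^ (0 : ZMod 4).val = x by simp⟩

theorem central_product (z : G) (a : Fin 4 → G) (hz : z ≠ 1) (hz2 : z * z = 1)
    (hzc : ∀ x, x * z = z * x) (ha : ∀ k, a k * a k = 1)
    (hanti : ∀ k l, k ≠ l → a k * a l = z * (a l * a k))
    (hgen : Subgroup.closure (insert z (Set.range a)) = ⊤)
    (hcenter : ∀ x ∈ Subgroup.center G, x = 1 ∨ x = z) :
    ∃ A B : Subgroup G, Nonempty (↥A ≃* QuaternionGroup 2) ∧ Nonempty (↥B ≃* DihedralGroup 4) ∧
      (∀ x ∈ A, ∀ y ∈ B, x * y = y * x) ∧ A ⊔ B = ⊤ ∧ A ⊓ B = Subgroup.center G := by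
  -- normal forms
  have mvz : ∀ x y : G, x * (z * y) = z * (x * y) := fun x y => by rw [← mul_assoc, hzc, mul_assoc]
  have zz : ∀ y : G, z * (z * y) = y := fun y => by rw [← mul_assoc, hz2, one_mul]
  have aa : ∀ k y, a k * (a k * y) = y := fun k y => by rw [← mul_assoc, ha, one_mul]
  have sw : ∀ k l : Fin 4, l < k → a k * a l = z * (a l * a k) := fun k l h => hanti k l h.ne'
  have sw' : ∀ k l : Fin 4, l < k → ∀ y, a k * (a l * y) = z * (a l * (a k * y)) := fun k l h y => by
    rw [← mul_assoc, sw k l h, mul_assoc, mul_assoc]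
  have h10 := sw 1 0 (by decide)
  have h20 := sw 2 0 (by decide)
  have h30 := sw 3 0 (by decide)
  have h21 := sw 2 1 (by decide)
  have h31 := sw 3 1 (by decide)
  have h32 := sw 3 2 (by decide)
  have g10 := sw' 1 0 (by decide)
  have g20 := sw' 2 0 (by decide)
  have g30 := sw' 3 0 (by decide)
  have g21 := sw' 2 1 (by decide)
  have g31 := sw' 3 1 (by decide)
  have g32 := sw' 3 2 (by decide)
  obtain ⟨i, hi⟩ : ∃ i, i = a 0 * a 1 := ⟨_, rfl⟩
  obtain ⟨j, hj⟩ : ∃ j, j = a 0 * a 2 := ⟨_, rfl⟩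
  obtain ⟨w, hw⟩ : ∃ w, w = a 0 * a 1 * a 2 * a 3 := ⟨_, rfl⟩
  obtain ⟨r, hr⟩ : ∃ r, r = a 3 * w := ⟨_, rfl⟩
  obtain ⟨s, hs⟩ : ∃ s, s = a 3 := ⟨_, rfl⟩
  have hi2 : i ^ 2 = z := by
    simp only [hi, sq, mul_assoc, mvz, h10, g10, aa, ha, zz, mul_one]
  have hj2 : j * j = i ^ 2 := by
    rw [hi2]; simp only [hj, mul_assoc, mvz, h20, g20, aa, ha, zz, mul_one]
  have hi4 : i ^ 4 = 1 := by rw [show 4 = 2 * 2 from rfl, pow_mul, hi2, sq, hz2]
  have hij : j⁻¹ * i * j = i⁻¹ := by
    rw [eq_inv_iff_mul_eq_one, mul_assoc, mul_assoc, inv_mul_eq_iff_eq_mul, mul_one]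
    simp only [hi, hj, mul_assoc, mvz, h10, h20, h21, g10, g20, g21, aa, ha, zz, mul_one]
  have hr2 : r ^ 2 = z := by
    simp only [hr, hs, hw, sq, mul_assoc, mvz, h10, h20, h30, h21, h31, h32, g10, g20, g30, g21, g31,
      g32, aa, ha, zz, hz2, mul_one]
  have hr4 : r ^ 4 = 1 := by rw [show 4 = 2 * 2 from rfl, pow_mul, hr2, sq, hz2]
  have hs2 : s * s = 1 := hs ▸ ha 3
  have hrs : s⁻¹ * r * s = r⁻¹ := by
    rw [eq_inv_iff_mul_eq_one, mul_assoc, mul_assoc, inv_mul_eq_iff_eq_mul, mul_one]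
    simp only [hr, hs, hw, mul_assoc, mvz, h10, h20, h30, h21, h31, h32, g10, g20, g30, g21, g31,
      g32, aa, ha, zz, hz2, mul_one]
  obtain ⟨A, hA, hAe⟩ := exists_quaternion hi4 (by rw [hi2]; exact hz) hj2 hij
  obtain ⟨B, hB, hBe⟩ := exists_dihedral hr4 (by rw [hr2]; exact hz) hs2 hrs
  have hcomm : ∀ x ∈ A, ∀ y ∈ B, x * y = y * x := by
    have hAc : A ≤ Subgroup.centralizer ({r, s} : Set G) := by
      rw [hAe, Subgroup.closure_le]
      intro x hx
      rw [SetLike.mem_coe, Subgroup.mem_centralizer_iff]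
      intro y hy
      simp only [Set.mem_insert_iff, Set.mem_singleton_iff] at hx hy
      rcases hx with rfl | rfl <;> rcases hy with rfl | rfl <;>
        simp only [hi, hj, hr, hs, hw, mul_assoc, mvz, h10, h20, h30, h21, h31, h32, g10, g20, g30,
          g21, g31, g32, aa, ha, zz, hz2, mul_one]
    intro x hx y hy
    have hle : B ≤ Subgroup.centralizer ({x} : Set G) := by
      rw [hBe, Subgroup.closure_le]
      intro y hy
      rw [SetLike.mem_coe, Subgroup.mem_centralizer_iff]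
      intro x' hx'
      rw [Set.mem_singleton_iff.1 hx']
      exact (Subgroup.mem_centralizer_iff.1 (hAc hx) y hy).symm
    exact Subgroup.mem_centralizer_iff.1 (hle hy) x rfl
  have hiA : i ∈ A := hAe ▸ Subgroup.subset_closure (by simp)
  have hjA : j ∈ A := hAe ▸ Subgroup.subset_closure (by simp)
  have hrB : r ∈ B := hBe ▸ Subgroup.subset_closure (by simp)
  have hsB : s ∈ B := hBe ▸ Subgroup.subset_closure (by simp)
  have htop : A ⊔ B = ⊤ := by
    rw [eq_top_iff, ← hgen, Subgroup.closure_le]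
    have hzA : z ∈ A ⊔ B := Subgroup.mem_sup_left (hi2 ▸ A.pow_mem hiA 2)
    have hi' : i ∈ A ⊔ B := Subgroup.mem_sup_left hiA
    have hj' : j ∈ A ⊔ B := Subgroup.mem_sup_left hjA
    have hr' : r ∈ A ⊔ B := Subgroup.mem_sup_right hrB
    have hs' : s ∈ A ⊔ B := Subgroup.mem_sup_right hsB
    have h2 : a 2 ∈ A ⊔ B := by
      rw [show a 2 = i⁻¹ * (s⁻¹ * r) * s⁻¹ by rw [hi, hr, hw, hs]; group]
      exact Subgroup.mul_mem _ (Subgroup.mul_mem _ (Subgroup.inv_mem _ hi')
        (Subgroup.mul_mem _ (Subgroup.inv_mem _ hs') hr')) (Subgroup.inv_mem _ hs')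
    have h0 : a 0 ∈ A ⊔ B := by
      rw [show a 0 = j * (a 2)⁻¹ by rw [hj]; group]
      exact Subgroup.mul_mem _ hj' (Subgroup.inv_mem _ h2)
    have h1 : a 1 ∈ A ⊔ B := by
      rw [show a 1 = (a 0)⁻¹ * i by rw [hi]; group]
      exact Subgroup.mul_mem _ (Subgroup.inv_mem _ h0) hi'
    have h3 : a 3 ∈ A ⊔ B := hs ▸ hs'
    rintro x (rfl | ⟨k, rfl⟩)
    · exact hzA
    · fin_cases k <;> assumption
  refine ⟨A, B, hA, hB, hcomm, htop, le_antisymm ?_ ?_⟩
  · intro x hx
    rw [Subgroup.mem_center_iff]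
    intro g
    have hle : A ⊔ B ≤ Subgroup.centralizer ({x} : Set G) := by
      refine sup_le (fun y hy => ?_) (fun y hy => ?_) <;>
        rw [Subgroup.mem_centralizer_iff] <;> intro x' hx' <;> rw [Set.mem_singleton_iff.1 hx']
      · exact (hcomm y hy x hx.2).symm
      · exact hcomm x hx.1 y hy
    exact (Subgroup.mem_centralizer_iff.1 (hle (htop ▸ Subgroup.mem_top g)) x rfl).symm
  · intro x hx
    rcases hcenter x hx with rfl | rfl
    · exact one_mem _
    · exact ⟨hi2 ▸ A.pow_mem hiA 2, hr2 ▸ B.pow_mem hrB 2⟩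

end Cfsg.Agent.Block.RankFourA5
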