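import Mathlib
import Cfsg.Prelude.Def_CaseTheorems
import Cfsg.Agent.Lib.Grp.Frattini

/-!
A bound on a central section fixed by an element inducing an involution with small centralizer,
when the sectional rank is at most four, and the vanishing of a normal subgroup generated by its
squares and its commutators with a nilpotent overgroup.
-/

set_option autoImplicit false

namespace Cfsg.Agent.Block.RankFourA5

open scoped commutatorElement

/-- A section of exponent two, bounded by the sectional rank. -/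
theorem card_le_mul_of_squares {Y : Type*} [Group Y] (h4 : Cfsg.SectionalPRankLE 2 4 Y)
    (U K : Subgroup Y) (hKU : K ≤ U) (hcen : ∀ u ∈ U, ∀ k ∈ K, u * k = k * u)
    (hsq : ∀ u ∈ U, u * u ∈ K) : Nat.card U ≤ 16 * Nat.card K := by
  let N := K.subgroupOf U
  have hN : N.Normal := ⟨fun k hk g => by
    have hk' : (k : Y) ∈ K := hk
    show ((g * k * g⁻¹ : U) : Y) ∈ K
    rw [Subgroup.coe_mul, Subgroup.coe_mul, Subgroup.coe_inv, hcen _ g.2 _ hk', mul_inv_cancel_right]
    exact hk'⟩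
  have hexp : ∀ a : U ⧸ N, a * a = 1 := fun a => by
    induction a using QuotientGroup.induction_on with
    | _ a => rw [← QuotientGroup.mk_mul, QuotientGroup.eq_one_iff]; exact hsq _ a.2
  have hinv : ∀ a : U ⧸ N, a⁻¹ = a := fun a => inv_eq_of_mul_eq_one_right (hexp a)
  have h := h4 U N ⊤ ⟨⟨fun a b => Subtype.ext (by
    show (a : U ⧸ N) * b = b * a
    rw [← hinv ((a : U ⧸ N) * b), mul_inv_rev, hinv, hinv])⟩⟩
    (fun a _ => by rw [sq]; exact hexp a)
  rw [Subgroup.card_top] at h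
  rw [N.card_eq_card_quotient_mul_card_subgroup,
    Nat.card_congr (Subgroup.subgroupOfEquivOfLe hKU).toEquiv]
  exact Nat.mul_le_mul_right _ (le_trans h (by norm_num))

/-- The bound: with `W` the image of `Q`, whose fixed points under `g` have order four and are of
the form `w * w ^ g`, at most half of `Z` is moved by `g`. -/
theorem card_le_two_mul {Y P : Type*} [Group Y] [Group P] [Finite Y] (π : Y →* P)
    (Q Z : Subgroup Y) [Q.Normal] (hZ : Q ⊓ π.ker = Z)
    (hcen : ∀ z ∈ Z, ∀ q ∈ Q, z * q = q * z) (hexp : ∀ z ∈ Z, z * z = 1)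
    (hsq : ∀ q ∈ Q, q * q ∈ Z) (g : Y) (hg : g ∉ Q) (hg2 : g * g ∈ Q)
    (hC4 : Nat.card ↥(Q.map π ⊓ Subgroup.centralizer ({π g} : Set P)) = 4)
    (hform : ∀ c ∈ Q.map π ⊓ Subgroup.centralizer ({π g} : Set P),
      ∃ b ∈ Q, c = π (b * (g * b * g⁻¹)))
    (h4 : Cfsg.SectionalPRankLE 2 4 Y) :
    Nat.card Z ≤ 2 * Nat.card ↥(Z ⊓ Subgroup.centralizer ({g} : Set Y)) := by
  have hZQ : Z ≤ Q := hZ ▸ inf_le_left
  have hZker : ∀ z ∈ Z, π z = 1 := fun z hz => (hZ ▸ hz : z ∈ Q ⊓ π.ker).2
  have hmemZ : ∀ y ∈ Q, π y = 1 → y ∈ Z := fun y hy h => hZ ▸ ⟨hy, h⟩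
  have hWexp : ∀ q ∈ Q, π q * π q = 1 := fun q hq => by
    rw [← map_mul]; exact hZker _ (hsq q hq)
  have hWcomm : ∀ q ∈ Q, ∀ r ∈ Q, π q * π r = π r * π q := fun q hq r hr => by
    have hinv : ∀ q ∈ Q, (π q)⁻¹ = π q := fun q hq => inv_eq_of_mul_eq_one_right (hWexp q hq)
    rw [← map_mul π q r, ← hinv _ (Q.mul_mem hq hr), map_mul, mul_inv_rev, hinv q hq, hinv r hr]
  -- an element inducing the same automorphism whose square lies in the section
  obtain ⟨g', hg', hg'2, hC', hK⟩ : ∃ g', g' ∉ Q ∧ g' * g' ∈ Z ∧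
      Q.map π ⊓ Subgroup.centralizer ({π g'} : Set P)
        = Q.map π ⊓ Subgroup.centralizer ({π g} : Set P) ∧
      Z ⊓ Subgroup.centralizer ({g'} : Set Y) = Z ⊓ Subgroup.centralizer ({g} : Set Y) := by
    obtain ⟨b, hb, hbe⟩ := hform _ ⟨⟨_, hg2, rfl⟩, Subgroup.mem_centralizer_iff.2 fun y hy => by
      rw [Set.mem_singleton_iff.1 hy, map_mul, mul_assoc]⟩
    refine ⟨b * g, fun h => hg ?_, ?_, ?_, ?_⟩
    · simpa using Q.mul_mem (Q.inv_mem hb) h
    · refine hmemZ _ ?_ ?_
      · rw [show b * g * (b * g) = b * (g * b * g⁻¹) * (g * g) by group]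
        exact Q.mul_mem (Q.mul_mem hb (Subgroup.Normal.conj_mem inferInstance _ hb g)) hg2
      · rw [show b * g * (b * g) = b * (g * b * g⁻¹) * (g * g) by group, map_mul π _ (g * g), ← hbe]
        exact hWexp _ hg2
    · ext c
      simp only [Subgroup.mem_inf, Subgroup.mem_centralizer_iff, Set.mem_singleton_iff, forall_eq,
        Subgroup.mem_map]
      constructor
      all_goals
        rintro ⟨⟨q, hq, rfl⟩, h⟩
        refine ⟨⟨q, hq, rfl⟩, ?_⟩
        simp only [map_mul] at h ⊢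
      · have h' : π b * (π g * π q) = π b * (π q * π g) := by
          rw [← mul_assoc, h, ← mul_assoc, ← mul_assoc, hWcomm b hb q hq]
        exact mul_left_cancel h'
      · rw [mul_assoc, h, ← mul_assoc, ← mul_assoc, hWcomm b hb q hq]
    · ext z
      simp only [Subgroup.mem_inf, Subgroup.mem_centralizer_iff, Set.mem_singleton_iff, forall_eq]
      constructor
      all_goals
        rintro ⟨hz, h⟩
        refine ⟨hz, ?_⟩
      · have h' : b * (g * z) = b * (z * g) := by
          rw [← mul_assoc, h, ← mul_assoc, ← mul_assoc, hcen z hz b hb]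
        exact mul_left_cancel h'
      · rw [mul_assoc, h, ← mul_assoc, ← mul_assoc, hcen z hz b hb]
  rw [← hC'] at hC4
  rw [← hK]
  clear hform hg2 hK hC' hg g
  set I := Q ⊓ (Subgroup.centralizer ({π g'} : Set P)).comap π with hI
  have hIQ : I ≤ Q := inf_le_left
  have hIc : ∀ a ∈ I, π g' * π a = π a * π g' := fun a ha =>
    Subgroup.mem_centralizer_iff.1 ha.2 _ rfl
  -- conjugation by the element moves each member of `I` by a fixed member of `Z`
  have hd : ∀ a ∈ I, g' * a * g'⁻¹ * a⁻¹ ∈ Z := fun a ha => hmemZ _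
    (Q.mul_mem (Subgroup.Normal.conj_mem inferInstance _ (hIQ ha) g') (Q.inv_mem (hIQ ha))) (by
      rw [map_mul, map_mul, map_mul, map_inv, map_inv, hIc a ha]; group)
  have hconjI : ∀ a ∈ I, g' * a * g'⁻¹ ∈ I := fun a ha => by
    refine ⟨Subgroup.Normal.conj_mem inferInstance _ (hIQ ha) g', ?_⟩
    show π (g' * a * g'⁻¹) ∈ Subgroup.centralizer ({π g'} : Set P)
    rw [map_mul, map_mul, map_inv, hIc a ha, mul_inv_cancel_right]
    exact ha.2
  have hconjI' : ∀ a ∈ I, g'⁻¹ * a * g' ∈ I := fun a ha => by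
    refine ⟨by simpa using Subgroup.Normal.conj_mem inferInstance _ (hIQ ha) g'⁻¹, ?_⟩
    show π (g'⁻¹ * a * g') ∈ Subgroup.centralizer ({π g'} : Set P)
    rw [map_mul, map_mul, map_inv, mul_assoc, ← hIc a ha, inv_mul_cancel_left]
    exact ha.2
  have hg2I : g' * g' ∈ I := ⟨hZQ hg'2, by
    show π (g' * g') ∈ Subgroup.centralizer ({π g'} : Set P)
    rw [hZker _ hg'2]; exact Subgroup.one_mem _⟩
  set U : Subgroup Y :=
    { carrier := {y | y ∈ I ∨ y * g'⁻¹ ∈ I}
      one_mem' := Or.inl I.one_mem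
      mul_mem' := by
        rintro x y (hx | hx) (hy | hy)
        · exact Or.inl (I.mul_mem hx hy)
        · exact Or.inr (by rw [mul_assoc]; exact I.mul_mem hx hy)
        · right
          rw [show x * y * g'⁻¹ = x * g'⁻¹ * (g' * y * g'⁻¹) by group]
          exact I.mul_mem hx (hconjI y hy)
        · left
          rw [show x * y = x * g'⁻¹ * (g' * (y * g'⁻¹) * g'⁻¹) * (g' * g') by group]
          exact I.mul_mem (I.mul_mem hx (hconjI _ hy)) hg2I
      inv_mem' := by
        rintro x (hx | hx)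
        · exact Or.inl (I.inv_mem hx)
        · right
          rw [show x⁻¹ * g'⁻¹ = g'⁻¹ * (x * g'⁻¹)⁻¹ * g' * (g' * g')⁻¹ by group]
          exact I.mul_mem (hconjI' _ (I.inv_mem hx)) (I.inv_mem hg2I) } with hU
  set K := Z ⊓ Subgroup.centralizer ({g'} : Set Y) with hKdef
  have hKfix : ∀ k, g' * k * g'⁻¹ = k → k ∈ Subgroup.centralizer ({g'} : Set Y) := fun k hk =>
    Subgroup.mem_centralizer_iff.2 fun y hy => by
      rw [Set.mem_singleton_iff.1 hy]; exact mul_inv_eq_iff_eq_mul.1 hk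
  have hKI : K ≤ I := fun k hk => ⟨hZQ hk.1, by
    show π k ∈ Subgroup.centralizer ({π g'} : Set P)
    rw [hZker _ hk.1]; exact Subgroup.one_mem _⟩
  have hKU : K ≤ U := fun k hk => Or.inl (hKI hk)
  have hcenU : ∀ u ∈ U, ∀ k ∈ K, u * k = k * u := by
    rintro u (hu | hu) k hk
    · exact (hcen k hk.1 u (hIQ hu)).symm
    · have h1 := hcen k hk.1 _ (hIQ hu)
      have h2 : g' * k = k * g' := Subgroup.mem_centralizer_iff.1 hk.2 _ rfl
      calc u * k = u * g'⁻¹ * (g' * k) := by group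
        _ = (u * g'⁻¹ * k) * g' := by rw [h2]; group
        _ = k * u := by rw [← h1]; group
  have hsqU : ∀ u ∈ U, u * u ∈ K := by
    have key : ∀ a ∈ I, a * a ∈ K ∧ g' * a * g'⁻¹ * a⁻¹ ∈ K := by
      intro a ha
      set d := g' * a * g'⁻¹ * a⁻¹ with hdd
      have hdZ := hd a ha
      have hga : g' * a * g'⁻¹ = d * a := by rw [hdd]; group
      refine ⟨⟨hsq a (hIQ ha), hKfix _ ?_⟩, ⟨hdZ, hKfix _ ?_⟩⟩
      · calc g' * (a * a) * g'⁻¹ = g' * a * g'⁻¹ * (g' * a * g'⁻¹) := by group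
          _ = d * (a * d) * a := by rw [hga]; group
          _ = (d * d) * (a * a) := by rw [← hcen d hdZ a (hIQ ha)]; group
          _ = a * a := by rw [hexp d hdZ, one_mul]
      · calc g' * d * g'⁻¹ = (g' * g') * a * (g' * g')⁻¹ * (g' * a * g'⁻¹)⁻¹ := by rw [hdd]; group
          _ = a * (d * a)⁻¹ := by rw [hcen _ hg'2 a (hIQ ha), mul_inv_cancel_right, hga]
          _ = d⁻¹ := by group
          _ = d := inv_eq_of_mul_eq_one_right (hexp d hdZ)
    rintro u (hu | hu)
    · exact (key u hu).1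
    · set a := u * g'⁻¹ with haa
      obtain ⟨hk1, hk2⟩ := key a hu
      have hg2K : g' * g' ∈ K := ⟨hg'2, hKfix _ (by group)⟩
      have h1 := hcen _ hk2.1 a (hIQ hu)
      rw [show u * u = a * (g' * a * g'⁻¹ * a⁻¹) * a * (g' * g') by rw [haa]; group, ← h1,
        mul_assoc _ a a]
      exact K.mul_mem (K.mul_mem hk2 hk1) hg2K
  have h := card_le_mul_of_squares h4 U K hKU hcenU hsqU
  have hUcard : 2 * Nat.card I ≤ Nat.card U := by
    let f : Bool × I → U := fun p => if p.1 then ⟨p.2, Or.inl p.2.2⟩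
      else ⟨p.2 * g', Or.inr (by simp)⟩
    have hf : Function.Injective f := by
      rintro ⟨b1, a1⟩ ⟨b2, a2⟩ h
      cases b1 <;> cases b2 <;> simp [f] at h ⊢
      · exact h
      · refine hg' ?_
        rw [show g' = (a1 : Y)⁻¹ * a2 by rw [← h]; group]
        exact Q.mul_mem (Q.inv_mem (hIQ a1.2)) (hIQ a2.2)
      · refine hg' ?_
        rw [show g' = (a2 : Y)⁻¹ * a1 by rw [h]; group]
        exact Q.mul_mem (Q.inv_mem (hIQ a2.2)) (hIQ a1.2)
      · exact h
    have := Nat.card_le_card_of_injective f hf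
    rwa [Nat.card_prod, Nat.card_eq_fintype_card (α := Bool), Fintype.card_bool] at this
  have hIcard : Nat.card I = 4 * Nat.card Z := by
    have hmap : I.map π = Q.map π ⊓ Subgroup.centralizer ({π g'} : Set P) := by
      ext c
      constructor
      · rintro ⟨a, ha, rfl⟩; exact ⟨⟨a, ha.1, rfl⟩, ha.2⟩
      · rintro ⟨⟨a, ha, rfl⟩, hc⟩; exact ⟨a, ⟨ha, hc⟩, rfl⟩
    have hker : π.ker ⊓ I = Z := by
      ext z
      constructor
      · rintro ⟨h1, h2⟩; exact hmemZ z (hIQ h2) h1
      · intro hz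
        refine ⟨hZker z hz, hZQ hz, ?_⟩
        show π z ∈ Subgroup.centralizer ({π g'} : Set P)
        rw [hZker z hz]; exact Subgroup.one_mem _
    rw [← hmap] at hC4
    have e := Subgroup.card_mul_index (π.ker.subgroupOf I)
    rw [show (π.ker.subgroupOf I).index = π.ker.relIndex I from rfl, Subgroup.relIndex_ker, hC4,
      ← Subgroup.inf_subgroupOf_right, Nat.card_congr (Subgroup.subgroupOfEquivOfLe inf_le_right).toEquiv,
      hker] at e
    omega
  omega

/-- A normal two-subgroup generated by its squares and commutators with a nilpotent overgroup is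
trivial. -/
theorem eq_bot_of_squares {X : Type*} [Group X] [Finite X] (Q K : Subgroup X) [K.Normal]
    (hQ : IsPGroup 2 Q) (hKQ : K ≤ Q)
    (h : K ≤ ⁅K, Q⁆ ⊔ Subgroup.closure ((fun x => x * x) '' (K : Set X))) : K = ⊥ := by
  have hp : Fact (Nat.Prime 2) := ⟨Nat.prime_two⟩
  have hK2 : IsPGroup 2 K := hQ.to_le hKQ
  have hle : ⁅K, Q⁆ ≤ K := Subgroup.commutator_le_left K Q
  have hKK : K ≤ ⁅K, Q⁆ := by
    have hsq : Subgroup.closure ((fun x => x * x) '' (K : Set X))
        ≤ (frattini ↥K).map K.subtype := by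
      rw [Subgroup.closure_le]
      rintro _ ⟨x, hx, rfl⟩
      exact ⟨(⟨x, hx⟩ : K) ^ 2, Grp.pGroup_pow_mem_frattini hK2 _, by simp [sq]⟩
    have htop : ⁅K, Q⁆.subgroupOf K ⊔ frattini ↥K = ⊤ := by
      rw [eq_top_iff]
      intro k _
      have hk : k ∈ (⁅K, Q⁆ ⊔ (frattini ↥K).map K.subtype).subgroupOf K :=
        sup_le_sup_left hsq _ (h k.2)
      rw [Subgroup.subgroupOf_sup hle (Subgroup.map_subtype_le _)] at hk
      rwa [show ((frattini ↥K).map K.subtype).subgroupOf K = frattini ↥K from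
        Subgroup.comap_map_eq_self_of_injective (Subgroup.subtype_injective K) _] at hk
    exact Subgroup.subgroupOf_eq_top.1 (frattini_nongenerating htop)
  obtain ⟨n, hn⟩ := (Subgroup.isNilpotent_iff_lowerCentralSeries Q).1 hQ.isNilpotent
  have hall : ∀ m, K ≤ Q.lowerCentralSeries m := by
    intro m
    induction m with
    | zero => exact hKQ
    | succ m ih =>
      rw [Subgroup.lowerCentralSeries_succ]
      exact hKK.trans (Subgroup.commutator_mono ih le_rfl)
  exact le_bot_iff.1 (hn ▸ hall n)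

end Cfsg.Agent.Block.RankFourA5
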