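import Mathlib
import Cfsg.Prelude.Def_CaseTheorems
import Cfsg.Prelude.Def_Transfer
import Cfsg.Prelude.Def_Local
import Cfsg.Agent.Lib.Grp.Frattini
import Cfsg.Agent.Lib.Grp.Cores
import Cfsg.Agent.Lib.Spor.RankFourQuotSetup
import Cfsg.Agent.Lib.Block.RankFourA5.Action
import Cfsg.Agent.Lib.Block.RankFourA5.Rank
import Cfsg.Agent.Lib.Block.RankFourA5.Central

/-!
The two-core of a two-constrained group of sectional rank at most four whose quotient by the core
contains the alternating group of degree five.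
-/

set_option autoImplicit false

namespace Cfsg.Agent.Block.RankFourA5

open scoped commutatorElement
open Cfsg.Agent.Spor.RankFourQuot

local notation "A5" => alternatingGroup (Fin 5)

theorem closure_squares_normal {X : Type*} [Group X] (K : Subgroup X) [K.Normal] :
    (Subgroup.closure ((fun x => x * x) '' (K : Set X))).Normal := by
  refine ⟨fun n hn g => ?_⟩
  induction hn using Subgroup.closure_induction with
  | mem x hx =>
    obtain ⟨k, hk, rfl⟩ := hx
    refine Subgroup.subset_closure ⟨g * k * g⁻¹, Subgroup.Normal.conj_mem inferInstance k hk g, ?_⟩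
    group
  | one => simp
  | mul x y _ _ hx hy =>
    rw [show g * (x * y) * g⁻¹ = g * x * g⁻¹ * (g * y * g⁻¹) by group]
    exact Subgroup.mul_mem _ hx hy
  | inv x _ hx =>
    rw [show g * x⁻¹ * g⁻¹ = (g * x * g⁻¹)⁻¹ by group]
    exact Subgroup.inv_mem _ hx

/-- In a group where all squares from a subgroup are central in it of exponent two, squaring gives
the commutator. -/
theorem square_commutator {Y : Type*} [Group Y] (Q Z : Subgroup Y) (hexp : ∀ z ∈ Z, z * z = 1)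
    (hcen : ∀ z ∈ Z, ∀ q ∈ Q, z * q = q * z) (hsq : ∀ q ∈ Q, q * q ∈ Z) {a b : Y} (ha : a ∈ Q)
    (hb : b ∈ Q) : a * b * (a * b) * (a * a) * (b * b) = ⁅a, b⁆ := by
  have hai : a⁻¹ = a * (a * a) := inv_eq_of_mul_eq_one_right (by
    rw [← mul_assoc]; exact hexp _ (hsq a ha))
  have hbi : b⁻¹ = b * (b * b) := inv_eq_of_mul_eq_one_right (by
    rw [← mul_assoc]; exact hexp _ (hsq b hb))
  rw [commutatorElement_def, hai, hbi]
  calc a * b * (a * b) * (a * a) * (b * b) = a * b * a * (b * (a * a)) * (b * b) := by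
        simp only [mul_assoc]
    _ = a * b * a * ((a * a) * b) * (b * b) := by rw [hcen _ (hsq a ha) b hb]
    _ = _ := by simp only [mul_assoc]

theorem commutator_mul_central {Y : Type*} [Group Y] (Q Z : Subgroup Y)
    (hcen : ∀ z ∈ Z, ∀ q ∈ Q, z * q = q * z) (hcomm : ∀ a ∈ Q, ∀ b ∈ Q, ⁅a, b⁆ ∈ Z) {a b c : Y}
    (ha : a ∈ Q) (hb : b ∈ Q) (hc : c ∈ Q) : ⁅a * b, c⁆ = ⁅a, c⁆ * ⁅b, c⁆ := by
  calc ⁅a * b, c⁆ = a * ⁅b, c⁆ * a⁻¹ * ⁅a, c⁆ := by simp only [commutatorElement_def]; group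
    _ = ⁅b, c⁆ * ⁅a, c⁆ := by rw [← hcen _ (hcomm b hb c hc) a ha, mul_inv_cancel_right]
    _ = _ := hcen _ (hcomm b hb c hc) _ (by
      rw [commutatorElement_def]
      exact Q.mul_mem (Q.mul_mem (Q.mul_mem ha hc) (Q.inv_mem ha)) (Q.inv_mem hc))

section

variable {X : Type*} [Group X] [Finite X]

theorem phiCore_eq_closure_squares :
    phiCore X = Subgroup.closure ((fun x => x * x) '' (Cfsg.pCore 2 X : Set X)) := by
  set Q := Cfsg.pCore 2 X with hQ
  have : Fact (Nat.Prime 2) := ⟨Nat.prime_two⟩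
  have hP : IsPGroup 2 Q := Grp.pCore_isPGroup
  refine le_antisymm ?_ ?_
  · set S := Subgroup.closure ((fun x => x * x) '' (Q : Set X)) with hS
    set S' := S.subgroupOf Q with hS'
    have hn : S'.Normal := by
      have := closure_squares_normal (Cfsg.pCore 2 X)
      exact Subgroup.Normal.comap this Q.subtype
    have hpow : ∀ x : Q, x ^ 2 ∈ S' := fun x => Subgroup.subset_closure ⟨x, x.2, by simp [sq]⟩
    have hexp : ∀ a : Q ⧸ S', a * a = 1 := fun a => by
      induction a using QuotientGroup.induction_on with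
      | _ a => rw [← QuotientGroup.mk_mul, ← sq, QuotientGroup.eq_one_iff]; exact hpow a
    have hc : commutator Q ≤ S' := Subgroup.Normal.quotient_commutative_iff_commutator_le.1
      ⟨⟨comm_of_sq hexp⟩⟩
    rintro _ ⟨x, hx, rfl⟩
    exact Grp.frattini_le_of_elementary Nat.prime_two hc hpow hx
  · rw [Subgroup.closure_le]
    rintro _ ⟨x, hx, rfl⟩
    exact ⟨(⟨x, hx⟩ : Q) ^ 2, Grp.pGroup_pow_mem_frattini hP _, by simp [sq]⟩

variable (hc : Cfsg.IsPConstrained 2 X) (hO : Cfsg.oddCore X = ⊥)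
  (h4 : Cfsg.SectionalPRankLE 2 4 X) [(phiCore X).Normal]
  (A : Subgroup (X ⧸ Cfsg.pCore 2 X)) (e : ↥A ≃* ↥(alternatingGroup (Fin 5)))

local notation "π0" => QuotientGroup.mk' (phiCore X)
local notation "Qc" => Cfsg.pCore 2 X
local notation "Φc" => phiCore X
local notation "X0" => A.comap (QuotientGroup.mk' (Cfsg.pCore 2 X))

/-- The projection of the preimage of the alternating group. -/
def psi : ↥(A.comap (QuotientGroup.mk' (Cfsg.pCore 2 X))) →* A5 :=
  e.toMonoidHom.comp ((QuotientGroup.mk' (Cfsg.pCore 2 X)).subgroupComap A)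

omit [Finite X] [(phiCore X).Normal] in
theorem psi_surjective : Function.Surjective (psi A e) :=
  e.surjective.comp (MonoidHom.subgroupComap_surjective_of_surjective _ A
    (QuotientGroup.mk'_surjective _))

omit [Finite X] [(phiCore X).Normal] in
theorem psi_eq_one (x : X0) : psi A e x = 1 ↔ (x : X) ∈ Cfsg.pCore 2 X := by
  rw [psi, MonoidHom.comp_apply, MulEquiv.coe_toMonoidHom, map_eq_one_iff _ e.injective,
    ← QuotientGroup.eq_one_iff]
  exact Subtype.ext_iff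

omit [Finite X] [(phiCore X).Normal] in
/-- An action of the preimage trivial on the core factors through the alternating group. -/
theorem exists_action {Y : Type*} [Group Y] (f : X →* Y) (M : Subgroup Y) [M.Normal]
    (hM : ∀ q ∈ Cfsg.pCore 2 X, ∀ m ∈ M, f q * m = m * f q) :
    ∃ φ : A5 →* MulAut M, ∀ (x : X0) (m : M),
      ((φ (psi A e x) m : M) : Y) = f x * m * (f x)⁻¹ := by
  let η : X0 →* MulAut M := (MulAut.conjNormal (H := M)).comp (f.comp (X0).subtype)
  have hker : (psi A e).ker ≤ η.ker := fun x hx => MulEquiv.ext fun m => Subtype.ext (by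
    show ((MulAut.conjNormal (f (x : X)) m : M) : Y) = m
    rw [MulAut.conjNormal_apply, hM _ ((psi_eq_one A e x).1 hx) m m.2, mul_inv_cancel_right])
  refine ⟨(psi A e).liftOfSurjective (psi_surjective A e) ⟨η, hker⟩, fun x m => ?_⟩
  have h := MonoidHom.liftOfRightInverse_comp_apply (psi A e)
    (Function.surjInv (psi_surjective A e)) (Function.rightInverse_surjInv _) ⟨η, hker⟩ x
  show (((psi A e).liftOfSurjective (psi_surjective A e) ⟨η, hker⟩ (psi A e x) m : M) : Y) = _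
  rw [show (psi A e).liftOfSurjective (psi_surjective A e) ⟨η, hker⟩ (psi A e x) = η x from h]
  exact MulAut.conjNormal_apply _ _

/-- The data on the Frattini quotient of the core. -/
structure Base (φ : A5 →* MulAut ↥((Cfsg.pCore 2 X).map (QuotientGroup.mk' (phiCore X)))) : Prop where
  exp : ∀ a : ↥((Cfsg.pCore 2 X).map π0), a * a = 1
  ne : φ ≠ 1
  card : Nat.card ↥((Cfsg.pCore 2 X).map π0) = 16
  spec : ∀ (x : X0) (m : ↥((Cfsg.pCore 2 X).map π0)),
    ((φ (psi A e x) m : ↥((Cfsg.pCore 2 X).map π0)) : X ⧸ phiCore X) = π0 x * m * (π0 x)⁻¹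

include hc hO h4 in
theorem exists_base : ∃ φ, Base A e φ := by
  obtain ⟨hn, hexp, hcent⟩ := core_quotient hc hO
  set W := (Cfsg.pCore 2 X).map π0 with hW
  have hexp' : ∀ a : W, a * a = 1 := fun a => Subtype.ext (hexp a a.2)
  obtain ⟨φ, hφ⟩ := exists_action A e π0 W fun q hq m hm => by
    have h1 := comm_of_sq hexp' ⟨π0 q, ⟨q, hq, rfl⟩⟩ ⟨m, hm⟩
    exact congrArg Subtype.val h1
  have hne : φ ≠ 1 := by
    intro h
    obtain ⟨x, hx⟩ := psi_surjective A e (invA * invB)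
    apply fiveA_ne
    rw [← hx, psi_eq_one]
    have hmem : π0 (x : X) ∈ W := by
      rw [← hcent, Subgroup.mem_centralizer_iff]
      intro m hm
      have := hφ x ⟨m, hm⟩
      rw [h] at this
      simp only [MonoidHom.one_apply, MulAut.one_apply] at this
      exact eq_mul_inv_iff_mul_eq.1 this
    obtain ⟨q, hq, hqe⟩ := hmem
    have := (QuotientGroup.eq (s := phiCore X)).1 hqe
    simpa using (Cfsg.pCore 2 X).mul_mem hq (phiCore_le this)
  have h16 : Nat.card W ≤ 16 := by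
    have h := card_le_mul_of_squares
      (sectional_of_surjective π0 (QuotientGroup.mk'_surjective _) h4) W ⊥ bot_le
      (fun u _ k hk => by rw [Subgroup.mem_bot.1 hk]; simp)
      (fun u hu => Subgroup.mem_bot.2 (hexp u hu))
    rwa [Subgroup.card_bot, mul_one] at h
  exact ⟨φ, hexp', hne, (card_fix hexp' φ hne h16).1, hφ⟩

variable {A e} {φ : A5 →* MulAut ↥((Cfsg.pCore 2 X).map (QuotientGroup.mk' (phiCore X)))}
  (hb : Base A e φ)

include hb in
theorem card_core : Nat.card (Cfsg.pCore 2 X) = 16 * Nat.card (phiCore X) := by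
  have e := Subgroup.card_mul_index ((π0).ker.subgroupOf (Cfsg.pCore 2 X))
  rw [show ((π0).ker.subgroupOf (Cfsg.pCore 2 X)).index = (π0).ker.relIndex (Cfsg.pCore 2 X) from rfl,
    Subgroup.relIndex_ker, hb.card, QuotientGroup.ker_mk',
    Nat.card_congr (Subgroup.subgroupOfEquivOfLe phiCore_le).toEquiv] at e
  omega

include h4 hb in
/-- The layer between a normal subgroup and the Frattini subgroup of the core. -/
theorem stage (N : Subgroup X) [N.Normal] (hN : N ≤ phiCore X)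
    (hNc : ∀ f ∈ phiCore X, ∀ q ∈ Cfsg.pCore 2 X, ⁅f, q⁆ ∈ N)
    (hNs : ∀ f ∈ phiCore X, f * f ∈ N) :
    (∀ g : X0, ∀ f ∈ phiCore X, (g : X) * f * (g : X)⁻¹ * f⁻¹ ∈ N) ∧
      (phiCore X ≤ N ∨ ∃ (a : Fin 4 → X) (f₀ : X), f₀ ∈ phiCore X ∧ (∀ k, a k ∈ Cfsg.pCore 2 X) ∧
        Cfsg.pCore 2 X ≤ Subgroup.closure (Set.range a) ⊔ phiCore X ∧ (∀ k, a k * a k ∈ N) ∧
        (∀ k l, k ≠ l → ⁅a k, a l⁆ ∉ N) ∧ ∀ f ∈ phiCore X, f ∈ N ∨ f * f₀⁻¹ ∈ N) := by
  have hQn : (Qc).Normal := Grp.pCore_isNormal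
  set p := QuotientGroup.mk' N with hp
  have hp1 : ∀ x, p x = 1 ↔ x ∈ N := fun x => QuotientGroup.eq_one_iff x
  let π : X ⧸ N →* X ⧸ Φc := QuotientGroup.map N Φc (MonoidHom.id X) hN
  have hπ : ∀ x, π (p x) = QuotientGroup.mk' Φc x := fun x => rfl
  set Z := (Φc).map p with hZdef
  set Qb := (Qc).map p with hQbdef
  have hZn : Z.Normal := Subgroup.Normal.map inferInstance _ (QuotientGroup.mk'_surjective _)
  have hQbn : Qb.Normal := hQn.map _ (QuotientGroup.mk'_surjective _)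
  have hΦQ : Φc ≤ Qc := phiCore_le
  have hZQ : Z ≤ Qb := Subgroup.map_mono hΦQ
  have hZ : Qb ⊓ π.ker = Z := by
    ext y
    constructor
    · rintro ⟨⟨x, -, rfl⟩, h⟩
      exact ⟨x, (QuotientGroup.eq_one_iff x).1 h, rfl⟩
    · rintro ⟨x, hx, rfl⟩
      exact ⟨⟨x, hΦQ hx, rfl⟩, (QuotientGroup.eq_one_iff x).2 hx⟩
  have hcen : ∀ z ∈ Z, ∀ q ∈ Qb, z * q = q * z := by
    rintro _ ⟨f, hf, rfl⟩ _ ⟨q, hq, rfl⟩
    rw [← commutatorElement_eq_one_iff_mul_comm, ← map_commutatorElement, hp1]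
    exact hNc f hf q hq
  have hexp : ∀ z ∈ Z, z * z = 1 := by
    rintro _ ⟨f, hf, rfl⟩
    rw [← map_mul, hp1]
    exact hNs f hf
  have hsqΦ : ∀ x ∈ Qc, x * x ∈ Φc := fun x hx => by
    rw [phiCore_eq_closure_squares]
    exact Subgroup.subset_closure ⟨x, hx, rfl⟩
  have hsq : ∀ q ∈ Qb, q * q ∈ Z := by
    rintro _ ⟨x, hx, rfl⟩
    exact ⟨x * x, hsqΦ x hx, map_mul _ _ _⟩
  have h4' := sectional_of_surjective p (QuotientGroup.mk'_surjective _) h4
  obtain ⟨g₀, hg₀⟩ := psi_surjective A e invA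
  have hφg : ∀ m, ((φ invA m : ↥((Qc).map π0)) : X ⧸ Φc) = π0 g₀ * m * (π0 g₀)⁻¹ := fun m => by
    rw [← hg₀]; exact hb.spec g₀ m
  have hQbπ : Qb.map π = (Qc).map π0 := by
    rw [hQbdef, Subgroup.map_map]; rfl
  have hg₀Q : p (g₀ : X) ∉ Qb := by
    rintro ⟨q, hq, hqe⟩
    apply invA_ne
    rw [← hg₀, psi_eq_one]
    have := (QuotientGroup.eq (s := N)).1 hqe
    simpa using (Qc).mul_mem hq (hΦQ (hN this))
  have hg₀2 : p (g₀ : X) * p (g₀ : X) ∈ Qb := by
    refine ⟨(g₀ : X) * g₀, ?_, map_mul _ _ _⟩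
    have h := (psi_eq_one A e (g₀ * g₀)).1 (by rw [map_mul, hg₀, invA_sq])
    exact h
  obtain ⟨-, hfix4, hform⟩ := card_fix hb.exp φ hb.ne hb.card.le
  have hfixmap : Qb.map π ⊓ Subgroup.centralizer ({π (p (g₀ : X))} : Set (X ⧸ Φc))
      = (fixSub (φ invA)).map ((Qc).map π0).subtype := by
    rw [hQbπ, hπ]
    ext c
    constructor
    · rintro ⟨hcW, hcc⟩
      refine ⟨⟨c, hcW⟩, Subtype.ext ?_, rfl⟩
      show ((φ invA ⟨c, hcW⟩ : ↥((Qc).map π0)) : X ⧸ Φc) = c
      rw [hφg, Subgroup.mem_centralizer_iff.1 hcc _ rfl, mul_inv_cancel_right]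
    · rintro ⟨⟨c, hcW⟩, hc, rfl⟩
      refine ⟨hcW, Subgroup.mem_centralizer_iff.2 fun y hy => ?_⟩
      have h : ((φ invA ⟨c, hcW⟩ : ↥((Qc).map π0)) : X ⧸ Φc) = c := congrArg Subtype.val hc
      rw [hφg] at h
      rw [Set.mem_singleton_iff.1 hy]
      exact mul_inv_eq_iff_eq_mul.1 h
  have hC4 : Nat.card ↥(Qb.map π ⊓ Subgroup.centralizer ({π (p (g₀ : X))} : Set (X ⧸ Φc))) = 4 := by
    rw [hfixmap, Subgroup.card_map_of_injective (Subgroup.subtype_injective _), hfix4]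
  have hbound := card_le_two_mul π Qb Z hZ hcen hexp hsq (p (g₀ : X)) hg₀Q hg₀2 hC4 (by
    rw [hfixmap]
    rintro _ ⟨c, hc, rfl⟩
    obtain ⟨⟨w, q, hq, rfl⟩, hwe⟩ := hform c hc
    refine ⟨p q, ⟨q, hq, rfl⟩, ?_⟩
    rw [hwe, map_mul, map_mul]
    show π0 q * ((φ invA ⟨π0 q, _⟩ : ↥((Qc).map π0)) : X ⧸ Φc) = _
    simp only [map_mul, map_inv, hπ, hφg]) h4'
  obtain ⟨φZ, hφZ⟩ := exists_action A e p Z fun q hq z hz => (hcen z hz _ ⟨q, hq, rfl⟩).symm
  have hexpZ : ∀ z : Z, z * z = 1 := fun z => Subtype.ext (hexp z z.2)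
  have hφZ1 : φZ = 1 := by
    by_contra h
    have hidx := index_fix_ge hexpZ φZ h
    have hmap : (fixSub (φZ invA)).map Z.subtype
        = Z ⊓ Subgroup.centralizer ({p (g₀ : X)} : Set (X ⧸ N)) := by
      ext c
      constructor
      · rintro ⟨⟨c, hcZ⟩, hc, rfl⟩
        refine ⟨hcZ, Subgroup.mem_centralizer_iff.2 fun y hy => ?_⟩
        have h : ((φZ invA ⟨c, hcZ⟩ : Z) : X ⧸ N) = c := congrArg Subtype.val hc
        rw [← hg₀, hφZ] at h
        rw [Set.mem_singleton_iff.1 hy]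
        exact mul_inv_eq_iff_eq_mul.1 h
      · rintro ⟨hcZ, hcc⟩
        refine ⟨⟨c, hcZ⟩, Subtype.ext ?_, rfl⟩
        show ((φZ invA ⟨c, hcZ⟩ : Z) : X ⧸ N) = c
        rw [← hg₀, hφZ, Subgroup.mem_centralizer_iff.1 hcc _ rfl, mul_inv_cancel_right]
    have hcard := Subgroup.card_mul_index (fixSub (φZ invA))
    rw [← hmap, Subgroup.card_map_of_injective (Subgroup.subtype_injective _)] at hbound
    have hpos : 0 < Nat.card ↥(fixSub (φZ invA)) := Nat.card_pos
    nlinarith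
  have hA : ∀ g : X0, ∀ f ∈ Φc, p (g : X) * p f * (p (g : X))⁻¹ = p f := fun g f hf => by
    have h := hφZ g ⟨p f, ⟨f, hf, rfl⟩⟩
    rw [hφZ1] at h
    exact h.symm
  refine ⟨fun g f hf => ?_, ?_⟩
  · rw [← hp1, map_mul, map_mul, map_mul, map_inv, map_inv, hA g f hf, mul_inv_cancel]
  -- squaring
  choose r hrQ hre using fun w : ↥((Qc).map π0) => w.2
  let q : ↥((Qc).map π0) → Z := fun w => ⟨p (r w * r w), ⟨_, hsqΦ _ (hrQ w), rfl⟩⟩
  have hq : ∀ (x : X) (hx : x ∈ Qc), (q ⟨π0 x, ⟨x, hx, rfl⟩⟩ : X ⧸ N) = p x * p x := by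
    intro x hx
    set w : ↥((Qc).map π0) := ⟨π0 x, ⟨x, hx, rfl⟩⟩
    have hf : x⁻¹ * r w ∈ Φc := (QuotientGroup.eq (s := Φc)).1 (hre w).symm
    set z := p (x⁻¹ * r w) with hz
    have hzZ : z ∈ Z := ⟨_, hf, rfl⟩
    show p (r w * r w) = _
    rw [show p (r w * r w) = p x * (z * p x) * z by
      rw [hz, map_mul, map_mul, map_inv]; group, hcen z hzZ _ ⟨x, hx, rfl⟩]
    simp only [mul_assoc, hexp z hzZ, mul_one]
  have hsurj : ∀ w : ↥((Qc).map π0), ∃ x, ∃ hx : x ∈ Qc, w = ⟨π0 x, ⟨x, hx, rfl⟩⟩ := fun w =>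
    ⟨r w, hrQ w, Subtype.ext (hre w).symm⟩
  have hcommZ : ∀ a ∈ Qb, ∀ b ∈ Qb, ⁅a, b⁆ ∈ Z := fun a ha b hb => by
    rw [← square_commutator Qb Z hexp hcen hsq ha hb]
    exact Z.mul_mem (Z.mul_mem (hsq _ (Qb.mul_mem ha hb)) (hsq a ha)) (hsq b hb)
  have hbi' : ∀ (x y : X) (hx : x ∈ Qc) (hy : y ∈ Qc),
      ((q (⟨π0 x, ⟨x, hx, rfl⟩⟩ * ⟨π0 y, ⟨y, hy, rfl⟩⟩) * q ⟨π0 x, ⟨x, hx, rfl⟩⟩
        * q ⟨π0 y, ⟨y, hy, rfl⟩⟩ : Z) : X ⧸ N) = ⁅p x, p y⁆ := by
    intro x y hx hy
    have hxy : (⟨π0 x, ⟨x, hx, rfl⟩⟩ * ⟨π0 y, ⟨y, hy, rfl⟩⟩ : ↥((Qc).map π0))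
        = ⟨π0 (x * y), ⟨x * y, (Qc).mul_mem hx hy, rfl⟩⟩ := Subtype.ext (map_mul _ _ _).symm
    rw [hxy, Subgroup.coe_mul, Subgroup.coe_mul, hq (x * y) ((Qc).mul_mem hx hy), hq x hx, hq y hy,
      map_mul, square_commutator Qb Z hexp hcen hsq ⟨x, hx, rfl⟩ ⟨y, hy, rfl⟩]
  have hquad := quadratic hb.exp φ hexpZ hb.ne hb.card.le q (fun t w => by
      obtain ⟨g, rfl⟩ := psi_surjective A e t
      obtain ⟨x, hx, rfl⟩ := hsurj w
      have hgx : (g : X) * x * (g : X)⁻¹ ∈ Qc := Subgroup.Normal.conj_mem hQn x hx g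
      have heq : φ (psi A e g) ⟨π0 x, ⟨x, hx, rfl⟩⟩ = ⟨π0 ((g : X) * x * (g : X)⁻¹), ⟨_, hgx, rfl⟩⟩ :=
        Subtype.ext (by rw [hb.spec]; simp)
      refine Subtype.ext ?_
      rw [heq, hq _ hgx, hq x hx, ← map_mul, show (g : X) * x * (g : X)⁻¹ * ((g : X) * x * (g : X)⁻¹)
        = (g : X) * (x * x) * (g : X)⁻¹ by group, map_mul p (↑g * (x * x)), map_mul p (↑g : X),
        map_inv, hA g _ (hsqΦ x hx), map_mul])
    (Subtype.ext (by
      have h1 : (1 : ↥((Qc).map π0)) = ⟨π0 1, ⟨1, (Qc).one_mem, rfl⟩⟩ := Subtype.ext (map_one _).symm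
      rw [h1, hq 1 (Qc).one_mem]; simp))
    (fun u v w => by
      obtain ⟨x, hx, rfl⟩ := hsurj u
      obtain ⟨y, hy, rfl⟩ := hsurj v
      obtain ⟨t, ht, rfl⟩ := hsurj w
      refine Subtype.ext ?_
      have hxy : (⟨π0 x, ⟨x, hx, rfl⟩⟩ * ⟨π0 y, ⟨y, hy, rfl⟩⟩ : ↥((Qc).map π0))
          = ⟨π0 (x * y), ⟨x * y, (Qc).mul_mem hx hy, rfl⟩⟩ := Subtype.ext (map_mul _ _ _).symm
      refine Eq.trans ?_ (Subgroup.coe_mul _ _ _).symm
      rw [hbi' x t hx ht, hbi' y t hy ht, hxy,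
        hbi' (x * y) t ((Qc).mul_mem hx hy) ht, map_mul]
      exact commutator_mul_central Qb Z hcen hcommZ ⟨x, hx, rfl⟩ ⟨y, hy, rfl⟩ ⟨t, ht, rfl⟩)
  rcases hquad with hall | ⟨s, b, hb1, hval, hgen, hs1, hs2⟩
  · left
    rw [phiCore_eq_closure_squares, Subgroup.closure_le]
    rintro _ ⟨x, hx, rfl⟩
    have h := congrArg Subtype.val (hall ⟨π0 x, ⟨x, hx, rfl⟩⟩)
    rw [hq x hx, ← map_mul] at h
    exact (hp1 _).1 h
  · right
    obtain ⟨f₀, hf₀, hf₀e⟩ := b.2
    have hf₀b : (b : X ⧸ N) = p f₀ := hf₀e.symm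
    refine ⟨fun k => r (s k), f₀, hf₀, fun k => hrQ _, ?_, fun k => ?_, fun k l hkl hN' => ?_, ?_⟩
    · intro x hx
      set T := Subgroup.closure (Set.range fun k => r (s k))
      have hmem : (⟨π0 x, ⟨x, hx, rfl⟩⟩ : ↥((Qc).map π0)) ∈ (T.map π0).subgroupOf ((Qc).map π0) := by
        have hle : Subgroup.closure (Set.range s) ≤ (T.map π0).subgroupOf ((Qc).map π0) := by
          rw [Subgroup.closure_le]
          rintro _ ⟨k, rfl⟩
          exact ⟨r (s k), Subgroup.subset_closure ⟨k, rfl⟩, hre _⟩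
        exact hle (hgen ▸ Subgroup.mem_top _)
      have : x ∈ (T.map π0).comap π0 := hmem
      rwa [Subgroup.comap_map_eq, QuotientGroup.ker_mk'] at this
    · have h := congrArg Subtype.val (hs1 k)
      exact (hp1 _).1 h
    · have h := hbi' (r (s k)) (r (s l)) (hrQ _) (hrQ _)
      have e1 : ∀ m, (⟨π0 (r (s m)), ⟨_, hrQ _, rfl⟩⟩ : ↥((Qc).map π0)) = s m := fun m =>
        Subtype.ext (hre _)
      rw [e1, e1, hs1, hs1, hs2 k l hkl, mul_one, mul_one, ← map_commutatorElement, (hp1 _).2 hN'] at h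
      exact hb1 (Subtype.ext h)
    · intro f hf
      have hfZ : p f = 1 ∨ p f = p f₀ := by
        rw [phiCore_eq_closure_squares] at hf
        induction hf using Subgroup.closure_induction with
        | mem y hy =>
          obtain ⟨x, hx, rfl⟩ := hy
          rw [map_mul, ← hq x hx]
          rcases hval ⟨π0 x, ⟨x, hx, rfl⟩⟩ with h | h
          · left; rw [h]; rfl
          · right; rw [h, hf₀b]
        | one => exact Or.inl (map_one p)
        | mul y z _ _ hy hz =>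
          rw [map_mul]
          rcases hy with h | h <;> rcases hz with h' | h' <;> rw [h, h']
          · simp
          · simp
          · simp
          · exact Or.inl (by rw [← hf₀b]; exact hexp _ b.2)
        | inv y _ hy =>
          rw [map_inv]
          rcases hy with h | h <;> rw [h]
          · simp
          · exact Or.inr (inv_eq_of_mul_eq_one_right (by rw [← hf₀b]; exact hexp _ b.2))
      rcases hfZ with h | h
      · exact Or.inl ((hp1 f).1 h)
      · exact Or.inr ((hp1 _).1 (by rw [map_mul, map_inv, h, mul_inv_cancel]))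

include h4 hb in
/-- Squares and commutators of the Frattini subgroup of the core vanish. -/
theorem layer_eq_bot (N₀ : Subgroup X) [N₀.Normal]
    (hN₀ : N₀ = ⁅phiCore X, Cfsg.pCore 2 X⁆ ⊔ Subgroup.closure ((fun x => x * x) '' (phiCore X : Set X)))
    (hne : ¬ phiCore X ≤ N₀) : N₀ = ⊥ := by
  have hQn : (Qc).Normal := Grp.pCore_isNormal
  have hΦQ : Φc ≤ Qc := phiCore_le
  have hNΦ : N₀ ≤ Φc := by
    rw [hN₀]
    refine sup_le (Subgroup.commutator_le_left Φc Qc) ?_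
    rw [Subgroup.closure_le]; rintro _ ⟨x, hx, rfl⟩; exact (Φc).mul_mem hx hx
  have hNc : ∀ f ∈ Φc, ∀ q ∈ Qc, ⁅f, q⁆ ∈ N₀ := fun f hf q hq =>
    hN₀ ▸ Subgroup.mem_sup_left (Subgroup.commutator_mem_commutator hf hq)
  have hNs : ∀ f ∈ Φc, f * f ∈ N₀ := fun f hf =>
    hN₀ ▸ Subgroup.mem_sup_right (Subgroup.subset_closure ⟨f, hf, rfl⟩)
  obtain ⟨hA, hd⟩ := stage h4 hb N₀ hNΦ hNc hNs
  obtain ⟨a, f₀, hf₀, haQ, -, -, hab, hcos⟩ := hd.resolve_left hne
  refine eq_bot_of_squares Qc N₀ Grp.pCore_isPGroup (hNΦ.trans hΦQ) ?_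
  set N₂ := ⁅N₀, Qc⁆ ⊔ Subgroup.closure ((fun x => x * x) '' (N₀ : Set X)) with hN₂
  have := closure_squares_normal N₀
  have hN₂n : N₂.Normal := Subgroup.sup_normal _ _
  set p := QuotientGroup.mk' N₂ with hp
  have hp1 : ∀ x, p x = 1 ↔ x ∈ N₂ := fun x => QuotientGroup.eq_one_iff x
  have hMc : ∀ n ∈ N₀, ∀ q ∈ Qc, p n * p q = p q * p n := fun n hn q hq => by
    rw [← commutatorElement_eq_one_iff_mul_comm, ← map_commutatorElement, hp1]
    exact Subgroup.mem_sup_left (Subgroup.commutator_mem_commutator hn hq)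
  have hMs : ∀ n ∈ N₀, p n * p n = 1 := fun n hn => by
    rw [← map_mul, hp1]
    exact Subgroup.mem_sup_right (Subgroup.subset_closure ⟨n, hn, rfl⟩)
  set x := p f₀ with hx
  have hdec : ∀ f ∈ Φc, ∃ m ∈ N₀, p f = p m ∨ p f = p m * x := fun f hf => by
    rcases hcos f hf with h | h
    · exact ⟨f, h, Or.inl rfl⟩
    · exact ⟨_, h, Or.inr (by rw [hx, ← map_mul]; simp)⟩
  -- the centralizer of the new element covers the quotient
  set C := Qc ⊓ (Subgroup.centralizer ({x} : Set (X ⧸ N₂))).comap p with hC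
  have hCmem : ∀ c, c ∈ C ↔ c ∈ Qc ∧ x * p c = p c * x := fun c => by
    refine and_congr Iff.rfl ?_
    show p c ∈ Subgroup.centralizer _ ↔ _
    rw [Subgroup.mem_centralizer_iff]
    simp
  have hCinv : ∀ t, ∀ w ∈ (C.map π0).subgroupOf ((Qc).map π0), φ t w ∈ (C.map π0).subgroupOf ((Qc).map π0) := by
    intro t w hw
    obtain ⟨g, rfl⟩ := psi_surjective A e t
    obtain ⟨c, hc, hce⟩ := hw
    rw [SetLike.mem_coe, hCmem] at hc
    refine ⟨(g : X) * c * (g : X)⁻¹, (hCmem _).2 ⟨Subgroup.Normal.conj_mem hQn c hc.1 g, ?_⟩, ?_⟩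
    · set G := p (g : X) with hG
      set m := p ((g : X) * f₀ * (g : X)⁻¹ * f₀⁻¹) with hm
      have hgx : G * x * G⁻¹ = m * x := by
        rw [hm, hG, hx]; simp [mul_assoc]
      have hgc : p ((g : X) * c * (g : X)⁻¹) = G * p c * G⁻¹ := by rw [hG]; simp
      have hmc := hMc _ (hA g f₀ hf₀) _ (Subgroup.Normal.conj_mem hQn c hc.1 g)
      rw [← hm] at hmc
      have h1 : m * x * p ((g : X) * c * (g : X)⁻¹) = p ((g : X) * c * (g : X)⁻¹) * (m * x) := by
        rw [← hgx, hgc]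
        calc G * x * G⁻¹ * (G * p c * G⁻¹) = G * (x * p c) * G⁻¹ := by group
          _ = _ := by rw [hc.2]; group
      generalize p ((g : X) * c * (g : X)⁻¹) = k at h1 hmc ⊢
      apply mul_left_cancel (a := m)
      calc m * (x * k) = k * (m * x) := by rw [← mul_assoc, h1]
        _ = (m * k) * x := by rw [← mul_assoc, hmc]
        _ = m * (k * x) := mul_assoc _ _ _
    · show π0 _ = ((φ (psi A e g) w : ↥((Qc).map π0)) : X ⧸ Φc)
      rw [hb.spec, map_mul, map_mul, map_inv, hce]; rfl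
  have hCtop : ∀ q ∈ Qc, x * p q = p q * x := by
    have hex : ∃ a ∈ Qc, a * a ∉ N₀ := by
      by_contra! h
      apply hne
      rw [phiCore_eq_closure_squares, Subgroup.closure_le]
      rintro _ ⟨y, hy, rfl⟩; exact h y hy
    obtain ⟨a₀, ha₀, ha₀2⟩ := hex
    have hsqΦ : a₀ * a₀ ∈ Φc := by
      rw [phiCore_eq_closure_squares]; exact Subgroup.subset_closure ⟨a₀, ha₀, rfl⟩
    have ha₀C : a₀ ∈ C := by
      rw [hCmem]; refine ⟨ha₀, ?_⟩
      have hn := (hcos _ hsqΦ).resolve_left ha₀2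
      have hm := hMc _ hn a₀ ha₀
      have hxe : x = (p (a₀ * a₀ * f₀⁻¹))⁻¹ * (p a₀ * p a₀) := by
        rw [hx, map_mul, map_mul, map_inv]; group
      have hc1 : Commute (p a₀) ((p (a₀ * a₀ * f₀⁻¹))⁻¹ * (p a₀ * p a₀)) :=
        (Commute.inv_right hm.symm).mul_right ((Commute.refl _).mul_right (Commute.refl _))
      rw [hxe]
      exact hc1.eq.symm
    have htop := (subgroup_eq hb.exp φ hb.ne hb.card.le _ hCinv).resolve_left fun hbot => by
      have hmem : (⟨π0 a₀, ⟨a₀, ha₀, rfl⟩⟩ : ↥((Qc).map π0)) ∈ (C.map π0).subgroupOf ((Qc).map π0) :=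
        ⟨a₀, ha₀C, rfl⟩
      rw [hbot, Subgroup.mem_bot, Subtype.ext_iff] at hmem
      exact ha₀2 (hNs _ ((QuotientGroup.eq_one_iff a₀).1 hmem))
    intro q hq
    have hmem : (⟨π0 q, ⟨q, hq, rfl⟩⟩ : ↥((Qc).map π0)) ∈ (C.map π0).subgroupOf ((Qc).map π0) :=
      htop ▸ Subgroup.mem_top _
    obtain ⟨c, hc, hce⟩ := hmem
    rw [SetLike.mem_coe, hCmem] at hc
    have hf : c⁻¹ * q ∈ Φc := (QuotientGroup.eq (s := Φc)).1 hce
    obtain ⟨m, hm, hme⟩ := hdec _ hf
    have hmx : Commute x (p m) := (hMc m hm f₀ (hΦQ hf₀)).symm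
    have hcx : Commute x (p (c⁻¹ * q)) := by
      rcases hme with h | h <;> rw [h]
      · exact hmx
      · exact hmx.mul_right (Commute.refl x)
    rw [show q = c * (c⁻¹ * q) by group, map_mul]
    exact ((Commute.mul_right hc.2 hcx)).eq
  have hΦc : ∀ f ∈ Φc, ∀ q ∈ Qc, p f * p q = p q * p f := by
    intro f hf q hq
    obtain ⟨m, hm, hme⟩ := hdec f hf
    rcases hme with h | h <;> rw [h]
    · exact hMc m hm q hq
    · exact (Commute.mul_left (hMc m hm q hq) (hCtop q hq)).eq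
  have hx2 : x * x = 1 := by
    set u := ⁅a 0, a 1⁆ with hu
    have huΦ : u ∈ Φc := by
      obtain ⟨y, hy, hye⟩ : u ∈ (commutator Qc).map (Qc).subtype :=
        ⟨⁅(⟨a 0, haQ 0⟩ : Qc), ⟨a 1, haQ 1⟩⁆,
          Subgroup.commutator_mem_commutator (Subgroup.mem_top _) (Subgroup.mem_top _), rfl⟩
      have : Fact (Nat.Prime 2) := ⟨Nat.prime_two⟩
      exact ⟨y, Grp.pGroup_commutator_le_frattini Grp.pCore_isPGroup hy, hye⟩
    have hum := (hcos u huΦ).resolve_left (hab 0 1 (by decide))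
    have hsqa : a 0 * a 0 ∈ Φc := by
      rw [phiCore_eq_closure_squares]
      exact Subgroup.subset_closure ⟨_, haQ 0, rfl⟩
    have h1 : ⁅p (a 0) * p (a 0), p (a 1)⁆ = 1 := by
      rw [commutatorElement_eq_one_iff_mul_comm, ← map_mul]
      exact hΦc _ hsqa _ (haQ 1)
    have hcu : p u * p (a 0) = p (a 0) * p u := hΦc u huΦ _ (haQ 0)
    have h2 : ⁅p (a 0) * p (a 0), p (a 1)⁆ = p u * p u := by
      calc ⁅p (a 0) * p (a 0), p (a 1)⁆ = p (a 0) * p u * (p (a 0))⁻¹ * p u := by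
            rw [hu, map_commutatorElement]; simp only [commutatorElement_def]; group
        _ = _ := by rw [← hcu, mul_inv_cancel_right]
    rw [h1] at h2
    set m := p (u * f₀⁻¹) with hm
    have hpu : p u = m * x := by rw [hm, hx, map_mul, map_inv]; group
    have hmx : Commute x m := (hMc _ hum f₀ (hΦQ hf₀)).symm
    rw [hpu, mul_assoc, ← mul_assoc x, hmx.eq, mul_assoc, ← mul_assoc, hm, hMs _ hum, one_mul] at h2
    exact h2.symm
  calc N₀ = _ := hN₀
    _ ≤ N₂ := sup_le (Subgroup.commutator_le.2 fun f hf q hq => (hp1 _).1 (by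
          rw [map_commutatorElement, commutatorElement_eq_one_iff_mul_comm]; exact hΦc f hf q hq))
        ((Subgroup.closure_le _).2 (by
          rintro _ ⟨f, hf, rfl⟩
          obtain ⟨m, hm, hme⟩ := hdec f hf
          refine (hp1 _).1 ?_
          rw [map_mul]
          rcases hme with h | h <;> rw [h]
          · exact hMs m hm
          · rw [mul_assoc, ← mul_assoc x, ← hMc m hm f₀ (hΦQ hf₀), mul_assoc, hx2, mul_one, hMs m hm]))

end

theorem radical_structure {X : Type*} [Group X] [Finite X] (hc : Cfsg.IsPConstrained 2 X)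
    (hO : Cfsg.oddCore X = ⊥) (h4 : Cfsg.SectionalPRankLE 2 4 X)
    (hQ : ∃ A : Subgroup (X ⧸ Cfsg.pCore 2 X), Nonempty (↥A ≃* ↥(alternatingGroup (Fin 5)))) :
    (Cfsg.IsElementaryAbelian 2 (Cfsg.pCore 2 X) ∧ Nat.card ↥(Cfsg.pCore 2 X) = 16) ∨
      (Nat.card ↥(Cfsg.pCore 2 X) = 32 ∧ ∃ A B : Subgroup ↥(Cfsg.pCore 2 X),
        Nonempty (↥A ≃* QuaternionGroup 2) ∧ Nonempty (↥B ≃* DihedralGroup 4) ∧
          (∀ a ∈ A, ∀ b ∈ B, a * b = b * a) ∧ A ⊔ B = ⊤ ∧
          A ⊓ B = Subgroup.center ↥(Cfsg.pCore 2 X)) := by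
  obtain ⟨A, ⟨e⟩⟩ := hQ
  set Q := Cfsg.pCore 2 X with hQdef
  have : (phiCore X).Normal := phiCore_normal
  obtain ⟨φ, hb⟩ := exists_base hc hO h4 A e
  have hQn : (Cfsg.pCore 2 X).Normal := Grp.pCore_isNormal
  have hcard := card_core hb
  by_cases hz : phiCore X ≤ ⁅phiCore X, Cfsg.pCore 2 X⁆
      ⊔ Subgroup.closure ((fun x => x * x) '' (phiCore X : Set X))
  · have hbot := eq_bot_of_squares _ _ Grp.pCore_isPGroup phiCore_le hz
    have hexp : ∀ q : ↥(Cfsg.pCore 2 X), q * q = 1 := fun q => by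
      have : (q : X) * q ∈ phiCore X := by
        rw [phiCore_eq_closure_squares]; exact Subgroup.subset_closure ⟨q, q.2, rfl⟩
      rw [hbot, Subgroup.mem_bot] at this
      exact Subtype.ext this
    refine Or.inl ⟨⟨⟨⟨comm_of_sq hexp⟩⟩, fun a ha => ?_⟩, by rw [hcard, hbot]; simp⟩
    have h := congrArg Subtype.val (hexp ⟨a, ha⟩)
    rw [sq]; exact h
  · right
    have := closure_squares_normal (phiCore X)
    set N₀ := ⁅phiCore X, Cfsg.pCore 2 X⁆
      ⊔ Subgroup.closure ((fun x => x * x) '' (phiCore X : Set X)) with hN₀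
    have hN₀n : N₀.Normal := Subgroup.sup_normal _ _
    have hN₀bot := layer_eq_bot h4 hb N₀ rfl hz
    have hcen : ∀ f ∈ phiCore X, ∀ q ∈ Cfsg.pCore 2 X, f * q = q * f := fun f hf q hq => by
      rw [← commutatorElement_eq_one_iff_mul_comm, ← Subgroup.mem_bot, ← hN₀bot]
      exact Subgroup.mem_sup_left (Subgroup.commutator_mem_commutator hf hq)
    have hsq : ∀ f ∈ phiCore X, f * f = 1 := fun f hf => by
      rw [← Subgroup.mem_bot, ← hN₀bot]
      exact Subgroup.mem_sup_right (Subgroup.subset_closure ⟨f, hf, rfl⟩)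
    obtain ⟨-, hd⟩ := stage h4 hb ⊥ bot_le
      (fun f hf q hq => Subgroup.mem_bot.2 (commutatorElement_eq_one_iff_mul_comm.2 (hcen f hf q hq)))
      (fun f hf => Subgroup.mem_bot.2 (hsq f hf))
    obtain ⟨a, f₀, hf₀, haQ, hgen, ha2, hab, hcos⟩ := hd.resolve_left fun h => hz (h.trans bot_le)
    simp only [Subgroup.mem_bot, mul_inv_eq_one] at ha2 hab hcos
    have hne : f₀ ≠ 1 := fun h => hz fun f hf => by
      rcases hcos f hf with rfl | h'
      · exact one_mem _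
      · rw [h', h]; exact one_mem _
    have hΦcard : Nat.card (phiCore X) = 2 := by
      have hset : (phiCore X : Set X) = {1, f₀} := by
        ext f
        simp only [SetLike.mem_coe, Set.mem_insert_iff, Set.mem_singleton_iff]
        exact ⟨hcos f, fun h => by rcases h with rfl | rfl; exacts [one_mem _, hf₀]⟩
      rw [← Set.ncard_pair hne.symm, ← hset, ← Nat.card_coe_set_eq]; rfl
    refine ⟨by rw [hcard, hΦcard], ?_⟩
    let z : Q := ⟨f₀, phiCore_le hf₀⟩
    let a' : Fin 4 → Q := fun k => ⟨a k, haQ k⟩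
    have hcommΦ : ∀ k l, ⁅a k, a l⁆ ∈ phiCore X := fun k l => by
      have : Fact (Nat.Prime 2) := ⟨Nat.prime_two⟩
      exact ⟨⁅a' k, a' l⁆, Grp.pGroup_commutator_le_frattini Grp.pCore_isPGroup
        (Subgroup.commutator_mem_commutator (Subgroup.mem_top _) (Subgroup.mem_top _)), rfl⟩
    refine central_product z a' (fun h => hne (congrArg Subtype.val h)) (Subtype.ext (hsq f₀ hf₀))
      (fun q => Subtype.ext (hcen f₀ hf₀ q q.2).symm) (fun k => Subtype.ext (ha2 k))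
      (fun k l hkl => Subtype.ext ?_) ?_ ?_
    · have h := (hcos _ (hcommΦ k l)).resolve_left (hab k l hkl)
      show a k * a l = f₀ * (a l * a k)
      rw [← h, commutatorElement_def]; group
    · apply Subgroup.map_injective (Subgroup.subtype_injective Q)
      rw [MonoidHom.map_closure, ← MonoidHom.range_eq_map, Subgroup.range_subtype]
      refine le_antisymm ((Subgroup.closure_le _).2 ?_) ?_
      · rintro _ ⟨q, -, rfl⟩; exact q.2
      · refine hgen.trans (sup_le ((Subgroup.closure_le _).2 ?_) ?_)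
        · rintro _ ⟨k, rfl⟩
          exact Subgroup.subset_closure ⟨a' k, Set.mem_insert_of_mem _ ⟨k, rfl⟩, rfl⟩
        · intro f hf
          rcases hcos f hf with rfl | rfl
          · exact one_mem _
          · exact Subgroup.subset_closure ⟨z, Set.mem_insert _ _, rfl⟩
    · set C := (Subgroup.center Q).map Q.subtype with hC
      have hCn : C.Normal := ConjAct.normal_of_characteristic_of_normal (H := Q)
      intro x hx
      have hinv : ∀ t, ∀ w ∈ (C.map (QuotientGroup.mk' (phiCore X))).subgroupOf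
          (Q.map (QuotientGroup.mk' (phiCore X))), φ t w ∈ (C.map (QuotientGroup.mk' (phiCore X))).subgroupOf
          (Q.map (QuotientGroup.mk' (phiCore X))) := by
        intro t w hw
        obtain ⟨g, rfl⟩ := psi_surjective A e t
        obtain ⟨c, hc, hce⟩ := hw
        refine ⟨(g : X) * c * (g : X)⁻¹, hCn.conj_mem c hc g, ?_⟩
        show _ = ((φ (psi A e g) w : ↥(Q.map (QuotientGroup.mk' (phiCore X)))) : X ⧸ phiCore X)
        rw [hb.spec, map_mul, map_mul, map_inv, hce]; rfl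
      rcases subgroup_eq hb.exp φ hb.ne hb.card.le _ hinv with h | h
      · have hmem : (⟨_, ⟨(x : X), x.2, rfl⟩⟩ : ↥(Q.map (QuotientGroup.mk' (phiCore X))))
            ∈ (C.map (QuotientGroup.mk' (phiCore X))).subgroupOf
              (Q.map (QuotientGroup.mk' (phiCore X))) := ⟨(x : X), ⟨x, hx, rfl⟩, rfl⟩
        rw [h, Subgroup.mem_bot, Subtype.ext_iff] at hmem
        rcases hcos _ ((QuotientGroup.eq_one_iff (x : X)).1 hmem) with h' | h'
        · exact Or.inl (Subtype.ext h')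
        · exact Or.inr (Subtype.ext h')
      · exfalso
        have hmem : (⟨_, ⟨a 0, haQ 0, rfl⟩⟩ : ↥(Q.map (QuotientGroup.mk' (phiCore X))))
            ∈ (C.map (QuotientGroup.mk' (phiCore X))).subgroupOf
              (Q.map (QuotientGroup.mk' (phiCore X))) := h ▸ Subgroup.mem_top _
        obtain ⟨_, ⟨c, hc, rfl⟩, hce⟩ := hmem
        rw [Subgroup.coe_subtype] at hce
        apply hab 0 1 (by decide)
        rw [commutatorElement_eq_one_iff_mul_comm]
        have hf := (QuotientGroup.eq (s := phiCore X)).1 hce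
        rw [show a 0 = (c : X) * ((c : X)⁻¹ * a 0) by group, mul_assoc, hcen _ hf _ (haQ 1),
          ← mul_assoc]
        have hcc : (c : X) * a 1 = a 1 * c :=
          (congrArg Subtype.val (Subgroup.mem_center_iff.1 hc (a' 1))).symm
        rw [hcc, mul_assoc]

end Cfsg.Agent.Block.RankFourA5
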